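import Groth.Agent.Cubic27.FivePoints
import Groth.Agent.Incid42.Elim
import Groth.Agent.SmoothFormLib.Forms
import Mathlib.Data.Finsupp.Multiset
import Mathlib.LinearAlgebra.Matrix.Adjugate

/-!
# Linear Pfaffian representations from five points in general position
-/

set_option autoImplicit false

universe u

open MvPolynomial
open Groth.Agent.CubicLib

namespace Groth.Agent.Cubic27

variable {k : Type u} [Field k]

/-- The quadrics through the coordinate points and `(1,1,1,1)`. -/
noncomputable def fiveQuad : Fin 5 → MvPolynomial (Fin 4) k :=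
  ![X 0 * X 2 - X 0 * X 1, X 0 * X 3 - X 0 * X 1, X 1 * X 2 - X 0 * X 1, X 1 * X 3 - X 0 * X 1,
    X 2 * X 3 - X 0 * X 1]

/-- The skew matrix whose Pfaffians are the five quadrics, bordered by `L`. -/
def fiveMat {R : Type u} [CommRing R] (y : Fin 4 → R) (L : Fin 5 → R) : Matrix (Fin 6) (Fin 6) R :=
  !![0, -y 1, -y 3, 0, y 1, L 0;
     y 1, 0, 0, y 2, -y 1, L 1;
     y 3, 0, 0, y 0, -y 0, L 2;
     0, -y 2, -y 0, 0, y 0, L 3;
     -y 1, y 1, y 0, -y 0, 0, L 4;
     -L 0, -L 1, -L 2, -L 3, -L 4, 0]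

set_option maxHeartbeats 4000000 in
theorem det_fiveMat {R : Type u} [CommRing R] (y : Fin 4 → R) (L : Fin 5 → R) :
    (fiveMat y L).det = (L 0 * (y 0 * y 2 - y 0 * y 1) + L 1 * (y 0 * y 3 - y 0 * y 1) +
      L 2 * (y 1 * y 2 - y 0 * y 1) + L 3 * (y 1 * y 3 - y 0 * y 1) + L 4 * (y 2 * y 3 - y 0 * y 1)) ^ 2 := by
  simp [fiveMat, Matrix.det_succ_row_zero, Fin.sum_univ_succ, Fin.succAbove]
  ring

theorem isHomogeneous_fiveQuad (i : Fin 5) : (fiveQuad (k := k) i).IsHomogeneous 2 := by
  have h : ∀ a b : Fin 4, (X a * X b : MvPolynomial (Fin 4) k).IsHomogeneous 2 := fun a b =>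
    (isHomogeneous_X k a).mul (isHomogeneous_X k b)
  fin_cases i <;> exact (h _ _).sub (h _ _)

theorem component_mul_quad {P : MvPolynomial (Fin 4) k} (hP : P.IsHomogeneous 2) (h : MvPolynomial (Fin 4) k) :
    homogeneousComponent 3 (h * P) = homogeneousComponent 1 h * P := by
  classical
  conv_lhs => rw [← sum_homogeneousComponent h, Finset.sum_mul, map_sum]
  have hterm : ∀ i, homogeneousComponent 3 (homogeneousComponent i h * P) =
      if i = 1 then homogeneousComponent i h * P else 0 := fun i => by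
    rw [homogeneousComponent_of_mem ((mem_homogeneousSubmodule _ _).2
      ((homogeneousComponent_isHomogeneous i h).mul hP))]
    split_ifs <;> first | rfl | (exfalso; omega)
  simp only [hterm]
  rw [Finset.sum_ite_eq']
  split_ifs with hm
  · rfl
  · rw [homogeneousComponent_eq_zero _ _ (by simp at hm; omega), zero_mul]

theorem fiveMat_skew {R : Type u} [CommRing R] (y : Fin 4 → R) (L : Fin 5 → R) (i j : Fin 6) :
    fiveMat y L j i = -fiveMat y L i j := by
  fin_cases i <;> fin_cases j <;> simp [fiveMat]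

theorem fiveMat_diag {R : Type u} [CommRing R] (y : Fin 4 → R) (L : Fin 5 → R) (i : Fin 6) :
    fiveMat y L i i = 0 := by
  fin_cases i <;> simp [fiveMat]

set_option maxHeartbeats 4000000 in
theorem isHomogeneous_fiveMat (L : Fin 5 → MvPolynomial (Fin 4) k) (hL : ∀ i, (L i).IsHomogeneous 1) (i j : Fin 6) :
    (fiveMat X L i j).IsHomogeneous 1 := by
  have hX : ∀ a : Fin 4, (X a : MvPolynomial (Fin 4) k).IsHomogeneous 1 := isHomogeneous_X k
  fin_cases i <;> fin_cases j <;> simp [fiveMat] <;>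
    first | exact isHomogeneous_zero _ _ _ | exact hX _ | exact (hX _).neg | exact hL _ | exact (hL _).neg

/-- Every cubic through the five points is a combination of the quadrics with linear coefficients. -/
theorem exists_linear_combination_fiveQuad (G : MvPolynomial (Fin 4) k) (hG : G.IsHomogeneous 3)
    (he : ∀ i, eval (Pi.single i 1 : Fin 4 → k) G = 0) (h1 : eval (fun _ => (1 : k)) G = 0) :
    ∃ L : Fin 5 → MvPolynomial (Fin 4) k, (∀ i, (L i).IsHomogeneous 1) ∧ G = ∑ i, L i * fiveQuad i := by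
  classical
  set J := Ideal.span (Set.range (fiveQuad (k := k))) with hJ
  let π := Ideal.Quotient.mk J
  let y : Fin 4 → MvPolynomial (Fin 4) k ⧸ J := fun i => π (X i)
  have hq : ∀ i, π (fiveQuad i) = 0 := fun i =>
    Ideal.Quotient.eq_zero_iff_mem.2 (Ideal.subset_span ⟨i, rfl⟩)
  have q0 : y 0 * y 2 = y 0 * y 1 := sub_eq_zero.1 (by simpa [fiveQuad, y] using hq 0)
  have q1 : y 0 * y 3 = y 0 * y 1 := sub_eq_zero.1 (by simpa [fiveQuad, y] using hq 1)
  have q2 : y 1 * y 2 = y 0 * y 1 := sub_eq_zero.1 (by simpa [fiveQuad, y] using hq 2)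
  have q3 : y 1 * y 3 = y 0 * y 1 := sub_eq_zero.1 (by simpa [fiveQuad, y] using hq 3)
  have q4 : y 2 * y 3 = y 0 * y 1 := sub_eq_zero.1 (by simpa [fiveQuad, y] using hq 4)
  set u := y 0 * y 1 with hu
  have hpair : ∀ i j : Fin 4, i ≠ j → y i * y j = u := by
    intro i j hij
    fin_cases i <;> fin_cases j <;>
      first | exact absurd rfl hij | assumption | exact hu.symm | exact (mul_comm _ _).trans hu.symm |
        exact (mul_comm _ _).trans q0 | exact (mul_comm _ _).trans q1 | exact (mul_comm _ _).trans q2 |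
        exact (mul_comm _ _).trans q3 | exact (mul_comm _ _).trans q4
  have e21 : u * y 2 = u * y 1 := by
    have a1 : y 0 * y 2 * y 1 = u * y 1 := by rw [q0]
    rw [← a1, hu]; ring
  have e20 : u * y 2 = u * y 0 := by
    have a1 : y 1 * y 2 * y 0 = u * y 0 := by rw [q2]
    rw [← a1, hu]; ring
  have e30 : u * y 3 = u * y 0 := by
    have a1 : y 1 * y 3 * y 0 = u * y 0 := by rw [q3]
    rw [← a1, hu]; ring
  have hl : ∀ l : Fin 4, u * y l = u * y 0 := by
    intro l; fin_cases l
    exacts [rfl, e21.symm.trans e20, e20, e30]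
  let P : MvPolynomial (Fin 4) k := X 0 * X 1 * X 0
  have hmon : ∀ m ∈ G.support, (monomial m (coeff m G) - C (coeff m G) * P) ∈ J := by
    intro m hm
    have hdeg : ∑ i, m i = 3 := by
      rw [← Finsupp.degree_eq_sum, Finsupp.degree_eq_weight_one]
      exact hG (mem_support_iff.1 hm)
    obtain ⟨i, j, hij, hi, hj⟩ : ∃ i j, i ≠ j ∧ m i ≠ 0 ∧ m j ≠ 0 := by
      obtain ⟨i, hi⟩ : ∃ i, m i ≠ 0 := by
        by_contra! hc; simp [hc] at hdeg
      by_contra! hc
      have hz : ∀ j, j ≠ i → m j = 0 := fun j hj => hc i j hj.symm hi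
      have hm' : m = Finsupp.single i 3 := by
        rw [Finset.sum_eq_single i (fun b _ hb => hz b hb) (fun h => absurd (Finset.mem_univ _) h)] at hdeg
        ext l; rcases eq_or_ne l i with rfl | hl
        · simp [hdeg]
        · simp [hz l hl, hl]
      refine (mem_support_iff.1 hm) ?_
      rw [hm']
      have := he i
      rw [eval_eq', Finset.sum_eq_single (Finsupp.single i 3)] at this
      · simpa [Finset.prod_eq_one, Pi.single_apply, Finsupp.single_apply, eq_comm] using this
      · intro a ha hne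
        obtain ⟨l, hl, hal⟩ : ∃ l, l ≠ i ∧ a l ≠ 0 := by
          by_contra! hc'
          refine hne ?_
          have hd : ∑ l, a l = 3 := by
            rw [← Finsupp.degree_eq_sum, Finsupp.degree_eq_weight_one]
            exact hG (mem_support_iff.1 ha)
          rw [Finset.sum_eq_single i (fun b _ hb => hc' b hb) (fun h => absurd (Finset.mem_univ _) h)] at hd
          ext l; rcases eq_or_ne l i with rfl | hl
          · simp [hd]
          · simp [hc' l hl, hl]
        rw [Finset.prod_eq_zero (Finset.mem_univ l) (by simp [hl, hal]), mul_zero]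
      · intro h; simp [notMem_support_iff.1 h]
    let r := m - (Finsupp.single i 1 + Finsupp.single j 1)
    have hr : m = r + (Finsupp.single i 1 + Finsupp.single j 1) := by
      refine (tsub_add_cancel_of_le fun l => ?_).symm
      rcases eq_or_ne l i with rfl | hl
      · simp [hij.symm, Nat.pos_iff_ne_zero.2 hi, Nat.one_le_iff_ne_zero.2 hi]
      · rcases eq_or_ne l j with rfl | hl'
        · simp [hl, Nat.one_le_iff_ne_zero.2 hj]
        · simp [hl, hl']
    obtain ⟨l, hl'⟩ : ∃ l, r = Finsupp.single l 1 := by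
      have hrdeg : r.degree = 1 := by
        have h3 : m.degree = 3 := by rw [Finsupp.degree_eq_sum]; exact hdeg
        rw [hr, map_add, map_add, Finsupp.degree_single, Finsupp.degree_single] at h3
        omega
      obtain ⟨l, hl'⟩ : ∃ l, r l ≠ 0 := by
        by_contra! hc
        rw [Finsupp.degree_eq_sum] at hrdeg
        simp [hc] at hrdeg
      refine ⟨l, Finsupp.ext fun b => ?_⟩
      rw [Finsupp.degree_eq_sum, ← Finset.add_sum_erase _ _ (Finset.mem_univ l)] at hrdeg
      rcases eq_or_ne b l with rfl | hb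
      · rw [Finsupp.single_eq_same]; omega
      · rw [Finsupp.single_eq_of_ne hb]
        have := Finset.single_le_sum (f := fun b => r b) (fun _ _ => Nat.zero_le _)
          (Finset.mem_erase.2 ⟨hb, Finset.mem_univ b⟩)
        omega
    rw [← Ideal.Quotient.eq_zero_iff_mem]
    have hmono : monomial m (coeff m G) = C (coeff m G) * (X l * (X i * X j)) := by
      generalize coeff m G = c
      conv_lhs => rw [hr, hl']
      simp [X, C_mul_monomial, monomial_mul]
    rw [hmono, ← mul_sub]
    show π _ = 0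
    rw [map_mul, map_sub]
    have e : π (X l * (X i * X j)) = π P := by
      simp only [P, map_mul]
      show y l * (y i * y j) = y 0 * y 1 * y 0
      rw [hpair i j hij, mul_comm, hl]
    rw [e, sub_self, mul_zero]
  have hmem : G ∈ J := by
    have h2 : G - C (∑ m ∈ G.support, coeff m G) * P ∈ J := by
      have e : G - C (∑ m ∈ G.support, coeff m G) * P =
          ∑ m ∈ G.support, (monomial m (coeff m G) - C (coeff m G) * P) := by
        rw [Finset.sum_sub_distrib, map_sum, Finset.sum_mul]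
        congr 1
        exact G.as_sum
      rw [e]; exact sum_mem hmon
    have h3 : ∑ m ∈ G.support, coeff m G = 0 := by
      rw [← h1, eval_eq']
      exact Finset.sum_congr rfl fun m _ => by simp
    rw [h3] at h2
    simpa using h2
  obtain ⟨L, hL⟩ := (Submodule.mem_span_range_iff_exists_fun _).1 hmem
  refine ⟨fun i => homogeneousComponent 1 (L i), fun i => homogeneousComponent_isHomogeneous 1 (L i), ?_⟩
  have := congrArg (homogeneousComponent 3) hL.symm
  rw [homogeneousComponent_of_mem ((mem_homogeneousSubmodule _ _).2 hG), if_pos rfl, map_sum] at this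
  rw [this]
  refine Finset.sum_congr rfl fun i _ => ?_
  rw [smul_eq_mul, component_mul_quad (isHomogeneous_fiveQuad i)]

/-- A linear Pfaffian representation from five points in general position. -/
theorem exists_rep_of_five (F : MvPolynomial (Fin 4) k) (hF : F.IsHomogeneous 3)
    (p : Fin 5 → (Fin 4 → k)) (hp : ∀ j, eval (p j) F = 0)
    (hli : ∀ j : Fin 5, LinearIndependent k (fun i : Fin 4 => p (j.succAbove i))) :
    ∃ M : Matrix (Fin 6) (Fin 6) (MvPolynomial (Fin 4) k),
      (∀ i j, (M i j).IsHomogeneous 1) ∧ M.transpose = -M ∧ (∀ i, M i i = 0) ∧ M.det = F ^ 2 := by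
  classical
  have h4 : LinearIndependent k fun i : Fin 4 => p i.castSucc := by
    convert hli (Fin.last 4) using 2 with i
    rw [Fin.succAbove_last]
  let bas := basisOfLinearIndependentOfCardEqFinrank h4 (by simp)
  have hbas : ∀ i, bas i = p i.castSucc := fun i => by simp [bas]
  set c := bas.repr (p (Fin.last 4)) with hc
  have hsum : ∑ i, c i • p i.castSucc = p (Fin.last 4) := by
    simp only [← hbas]; exact bas.sum_repr _
  have hc0 : ∀ i, c i ≠ 0 := by
    intro i hi
    have hmem : p (Fin.last 4) ∈ Submodule.span k (Set.range fun l : {l : Fin 4 // l ≠ i} => p l.1.castSucc) := by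
      rw [← hsum]
      refine sum_mem fun l _ => ?_
      rcases eq_or_ne l i with rfl | hl
      · rw [hi, zero_smul]; exact zero_mem _
      · exact Submodule.smul_mem _ _ (Submodule.subset_span ⟨⟨l, hl⟩, rfl⟩)
    obtain ⟨s, hs⟩ := Fin.exists_succAbove_eq (Fin.castSucc_lt_last i).ne'
    refine (hli i.castSucc).notMem_span_image (s := {l | l ≠ s}) (x := s) (by simp) ?_
    show p (i.castSucc.succAbove s) ∈ _
    rw [hs]
    refine Submodule.span_mono ?_ hmem
    rintro _ ⟨⟨l, hl⟩, rfl⟩
    obtain ⟨t, ht⟩ := Fin.exists_succAbove_eq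
      (show l.castSucc ≠ i.castSucc from fun h => hl (Fin.castSucc_injective _ h))
    refine ⟨t, fun hts => ?_, by show p _ = p l.castSucc; rw [ht]⟩
    rw [hts, hs] at ht
    exact (Fin.castSucc_lt_last l).ne ht.symm
  let A : Matrix (Fin 4) (Fin 4) k := Matrix.of fun a j => c j * p j.castSucc a
  have hA : IsUnit A.det := by
    rw [← Matrix.isUnit_iff_isUnit_det, ← Matrix.linearIndependent_cols_iff_isUnit]
    exact h4.units_smul fun j => Units.mk0 (c j) (hc0 j)
  set G := SmoothFormLib.linSub A F with hG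
  obtain ⟨L, hL, hGL⟩ := exists_linear_combination_fiveQuad G (SmoothFormLib.isHomogeneous_linSub A hF)
    (fun i => by
      rw [hG, SmoothFormLib.eval_linSub, Matrix.mulVec_single]
      rw [show (MulOpposite.op (1 : k) • A.col i) = c i • p i.castSucc by ext a; simp [A],
        Incid42.eval_smul_of_isHomogeneous hF, hp, mul_zero])
    (by
      rw [hG, SmoothFormLib.eval_linSub, show A.mulVec (fun _ => (1 : k)) = ∑ i, c i • p i.castSucc by
        ext a; simp [A, Matrix.mulVec, dotProduct, Finset.sum_apply], hsum, hp])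
  let φ : MvPolynomial (Fin 4) k →ₐ[k] MvPolynomial (Fin 4) k := SmoothFormLib.linSub A⁻¹
  refine ⟨(fiveMat X L).map φ, fun i j => ?_, ?_, fun i => ?_, ?_⟩
  · exact SmoothFormLib.isHomogeneous_linSub _ (isHomogeneous_fiveMat L hL i j)
  · refine Matrix.ext fun i j => ?_
    show φ (fiveMat X L j i) = -φ (fiveMat X L i j)
    rw [fiveMat_skew, map_neg]
  · show φ (fiveMat X L i i) = 0
    rw [fiveMat_diag, map_zero]
  · rw [← AlgHom.mapMatrix_apply, ← AlgHom.map_det, det_fiveMat, map_pow]
    refine congrArg (fun z : MvPolynomial (Fin 4) k => z ^ 2) ?_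
    have : G = L 0 * (X 0 * X 2 - X 0 * X 1) + L 1 * (X 0 * X 3 - X 0 * X 1) + L 2 * (X 1 * X 2 - X 0 * X 1) +
        L 3 * (X 1 * X 3 - X 0 * X 1) + L 4 * (X 2 * X 3 - X 0 * X 1) := by
      rw [hGL]; simp [Fin.sum_univ_five, fiveQuad]
    rw [← this, hG]
    show SmoothFormLib.linSub A⁻¹ (SmoothFormLib.linSub A F) = F
    rw [← SmoothFormLib.linSub_mul, Matrix.mul_nonsing_inv A hA, SmoothFormLib.linSub_one]

/-- The five points of a cubic surface with a rational point which is not a `T`-point. -/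
theorem exists_five_of_point [CharZero k] (F : MvPolynomial (Fin 4) k) (hF : F.IsHomogeneous 3)
    (hirr : Irreducible (MvPolynomial.map (algebraMap k (AlgebraicClosure k)) F))
    (hcone : ¬ ∃ v : Fin 4 → k, v ≠ 0 ∧ ∑ i : Fin 4, v i • MvPolynomial.pderiv i F = 0)
    (a : Fin 4 → k) (ha : a ≠ 0) (hFa : MvPolynomial.eval a F = 0)
    (hT : ¬ ∃ L₁ L₂ L₃ : MvPolynomial (Fin 4) (AlgebraicClosure k),
      L₁.IsHomogeneous 1 ∧ L₂.IsHomogeneous 1 ∧ L₃.IsHomogeneous 1 ∧
      MvPolynomial.map (algebraMap k (AlgebraicClosure k)) F - L₁ * L₂ * L₃ ∈ Ideal.span {∑ i : Fin 4,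
        MvPolynomial.C (algebraMap k (AlgebraicClosure k) (MvPolynomial.eval a (MvPolynomial.pderiv i F))) *
          MvPolynomial.X i}) :
    ∃ p : Fin 5 → (Fin 4 → k), p 0 = a ∧ (∀ j : Fin 5, MvPolynomial.eval (p j) F = 0) ∧
      ∀ j : Fin 5, LinearIndependent k (fun i : Fin 4 => p (j.succAbove i)) := by
  classical
  obtain ⟨G, hG, hG₁, -⟩ := exists_cubic F hF
  obtain ⟨G', hG', hG'₁, -⟩ := exists_cubic (MvPolynomial.map (algebraMap k (AlgebraicClosure k)) F) (hF.map _)
  have hFF : ∀ v, G'.F (ext' v) = algebraMap k (AlgebraicClosure k) (G.F v) := fun v => by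
    rw [← hG', ← hG, MvPolynomial.eval_map, ← MvPolynomial.coe_eval₂Hom]
    exact MvPolynomial.map_eval₂Hom (RingHom.id k) v (algebraMap k (AlgebraicClosure k)) F |>.symm
  have hG0 : G.F a = 0 := by rw [← hG]; exact hFa
  suffices hR : ∀ (N : Finset ((Fin 4 → k) →ₗ[k] k)), (∀ g ∈ N, g ≠ 0) → ∃ x, G.F x = 0 ∧ ∀ g ∈ N, g x ≠ 0 by
    obtain ⟨p, hp0, hpF, hpli⟩ := exists_five ha hG0 hR
    exact ⟨p, hp0, fun j => by rw [hG]; exact hpF j, hpli⟩
  by_cases hsm : ∃ v, G.T a a v ≠ 0
  · refine dense_smooth hFF hG0 hsm ha fun h => hT ?_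
    have hsm' : ∃ v, G'.T (ext' a) (ext' a) v ≠ 0 :=
      hsm.elim fun v hv => ⟨_, by rw [T_ext' hFF _ _ v]; simpa using hv⟩
    obtain ⟨L₁, L₂, L₃, h1, h2, h3, h4⟩ := (Tpt_iff hG' hG'₁ (ext' a) hsm').2 h
    refine ⟨L₁, L₂, L₃, h1, h2, h3, ?_⟩
    convert h4 using 6 with i
    rw [hG'₁, ← ext'_single, T_ext' hFF, hG₁, map_mul, map_ofNat]
  · push Not at hsm
    refine dense_singular ha hsm (fun h => ?_) fun L B h => ?_
    · refine hcone ⟨a, ha, MvPolynomial.funext fun v => ?_⟩
      rw [sum_smul_pderiv_eval hG₁ a v, map_zero, G.symm₁₃, h]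
      simp
    · let PL : MvPolynomial (Fin 4) k := ∑ i, MvPolynomial.C (L (Pi.single i 1)) * MvPolynomial.X i
      let PB : MvPolynomial (Fin 4) k := ∑ i, ∑ j,
        MvPolynomial.C (B (Pi.single i 1) (Pi.single j 1)) * MvPolynomial.X i * MvPolynomial.X j
      have hF' : F = PL * PB := MvPolynomial.funext fun v => by
        rw [map_mul, hG, h]
        congr 1
        · conv_lhs => rw [pi_eq_sum_univ' v]
          simp [PL, mul_comm]
        · conv_lhs => rw [pi_eq_sum_univ' v]
          simp [PB, Finset.mul_sum]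
          rw [Finset.sum_comm]
          exact Finset.sum_congr rfl fun i _ => Finset.sum_congr rfl fun j _ => by ring
      rw [hF', map_mul] at hirr
      rcases hirr.isUnit_or_isUnit rfl with hu | hu
      · simpa [PL] using hu.map (MvPolynomial.eval (0 : Fin 4 → AlgebraicClosure k))
      · simpa [PB] using hu.map (MvPolynomial.eval (0 : Fin 4 → AlgebraicClosure k))

/-- A linear Pfaffian representation from a rational point which is not a `T`-point. -/
theorem exists_rep_of_point [CharZero k] (F : MvPolynomial (Fin 4) k) (hF : F.IsHomogeneous 3)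
    (hirr : Irreducible (MvPolynomial.map (algebraMap k (AlgebraicClosure k)) F))
    (hcone : ¬ ∃ v : Fin 4 → k, v ≠ 0 ∧ ∑ i : Fin 4, v i • MvPolynomial.pderiv i F = 0)
    (a : Fin 4 → k) (ha : a ≠ 0) (hFa : MvPolynomial.eval a F = 0)
    (hT : ¬ ∃ L₁ L₂ L₃ : MvPolynomial (Fin 4) (AlgebraicClosure k),
      L₁.IsHomogeneous 1 ∧ L₂.IsHomogeneous 1 ∧ L₃.IsHomogeneous 1 ∧
      MvPolynomial.map (algebraMap k (AlgebraicClosure k)) F - L₁ * L₂ * L₃ ∈ Ideal.span {∑ i : Fin 4,
        MvPolynomial.C (algebraMap k (AlgebraicClosure k) (MvPolynomial.eval a (MvPolynomial.pderiv i F))) *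
          MvPolynomial.X i}) :
    ∃ M : Matrix (Fin 6) (Fin 6) (MvPolynomial (Fin 4) k),
      (∀ i j, (M i j).IsHomogeneous 1) ∧ M.transpose = -M ∧ (∀ i, M i i = 0) ∧
        ∃ c : k, c ≠ 0 ∧ M.det = MvPolynomial.C c * F ^ 2 := by
  obtain ⟨p, -, hp, hli⟩ := exists_five_of_point F hF hirr hcone a ha hFa hT
  obtain ⟨M, h1, h2, h3, h4⟩ := exists_rep_of_five F hF p hp hli
  exact ⟨M, h1, h2, h3, 1, one_ne_zero, by rw [h4, map_one, one_mul]⟩

end Groth.Agent.Cubic27
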