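import Groth.Agent.Cubic27.LinesFinite
import Groth.Agent.Cubic27.Pfaff
import Mathlib.FieldTheory.Galois.Basic
import Mathlib.FieldTheory.IntermediateField.Adjoin.Basic

/-!
# Linear Pfaffian representations over extensions of degree at most three
-/

set_option autoImplicit false

universe u v w

open Module MvPolynomial
open Groth.Agent.CubicLib

namespace Groth.Agent.Cubic27

section Descent

variable {k : Type u} [Field k] {K : Type v} [Field K] [Algebra k K]

theorem cone_descent (F : MvPolynomial (Fin 4) k)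
    (hcone : ¬ ∃ v : Fin 4 → k, v ≠ 0 ∧ ∑ i : Fin 4, v i • pderiv i F = 0) :
    ¬ ∃ v : Fin 4 → K, v ≠ 0 ∧ ∑ i : Fin 4, v i • pderiv i (map (algebraMap k K) F) = 0 := by
  rintro ⟨v, hv, h⟩
  obtain ⟨i₀, hi₀⟩ : ∃ i, v i ≠ 0 := by by_contra! h'; exact hv (_root_.funext h')
  obtain ⟨l, hl⟩ : ∃ l : K →ₗ[k] k, l (v i₀) ≠ 0 := by
    by_contra! h'
    exact hi₀ ((Module.forall_dual_apply_eq_zero_iff k (v i₀)).1 h')
  refine hcone ⟨fun i => l (v i), fun h' => hl (congrFun h' i₀), MvPolynomial.ext _ _ fun m => ?_⟩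
  have h1 := congrArg (fun z => l (coeff m z)) h
  have e : ∀ (z : K) (c : k), l (z * algebraMap k K c) = l z * c := fun z c => by
    rw [mul_comm z, ← Algebra.smul_def, map_smul, smul_eq_mul, mul_comm]
  simpa [coeff_sum, pderiv_map, coeff_map, map_sum, e] using h1

theorem algebraMap_of_fixed [CharZero k] [IsAlgClosed K] [Algebra.IsAlgebraic k K] (x : K)
    (hx : ∀ σ : K ≃ₐ[k] K, σ x = x) : ∃ c : k, algebraMap k K c = x := by
  haveI : Normal k K := normal_iff.2 fun y =>
    ⟨(Algebra.IsAlgebraic.isAlgebraic y).isIntegral, IsAlgClosed.splits _⟩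
  haveI : IsGalois k K := IsGalois.mk
  exact IntermediateField.mem_bot.1 ((InfiniteGalois.mem_bot_iff_fixed x).2 hx)

end Descent

section MainProof

variable {k : Type u} [Field k] [CharZero k]

/-- The condition that a point is not a `T`-point, over the algebraic closure. -/
def NotT (F : MvPolynomial (Fin 4) k) (a : Fin 4 → k) : Prop :=
  ¬ ∃ L₁ L₂ L₃ : MvPolynomial (Fin 4) (AlgebraicClosure k),
      L₁.IsHomogeneous 1 ∧ L₂.IsHomogeneous 1 ∧ L₃.IsHomogeneous 1 ∧
      map (algebraMap k (AlgebraicClosure k)) F - L₁ * L₂ * L₃ ∈ Ideal.span {∑ i : Fin 4,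
        C (algebraMap k (AlgebraicClosure k) (eval a (pderiv i F))) * X i}

theorem notT_of_singular (F : MvPolynomial (Fin 4) k)
    (hirr : Irreducible (map (algebraMap k (AlgebraicClosure k)) F)) (a : Fin 4 → k)
    (ha : ∀ i, eval a (pderiv i F) = 0) : NotT F a := by
  rintro ⟨L₁, L₂, L₃, h₁, h₂, h₃, h⟩
  simp [ha, sub_eq_zero] at h
  have hnu : ∀ {L : MvPolynomial (Fin 4) (AlgebraicClosure k)}, L.IsHomogeneous 1 → ¬ IsUnit L := by
    intro L hL hu
    have h0 : eval (0 : Fin 4 → AlgebraicClosure k) L = 0 := by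
      rw [eval_zero]
      exact hL.coeff_eq_zero (by simp)
    exact (h0 ▸ hu.map (eval (0 : Fin 4 → AlgebraicClosure k))).ne_zero rfl
  rcases hirr.isUnit_or_isUnit h with hu | hu
  · exact hnu h₁ (isUnit_of_mul_isUnit_left hu)
  · exact hnu h₃ hu

/-- A point on no line of the surface is not a `T`-point. -/
theorem no_split {L : Type u} [Field L] [CharZero L] (F : MvPolynomial (Fin 4) L) (hF : F.IsHomogeneous 3)
    (b : Fin 4 → L) (hFb : eval b F = 0)
    (hline : ∀ U : Submodule L (Fin 4 → L), finrank L ↥U = 2 → b ∈ U → ∃ u ∈ U, eval u F ≠ 0) :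
    ¬ ∃ L₁ L₂ L₃ : MvPolynomial (Fin 4) L, L₁.IsHomogeneous 1 ∧ L₂.IsHomogeneous 1 ∧ L₃.IsHomogeneous 1 ∧
      F - L₁ * L₂ * L₃ ∈ Ideal.span {∑ i : Fin 4, C (eval b (pderiv i F)) * X i} := by
  classical
  rintro ⟨L₁, L₂, L₃, h₁, h₂, h₃, h⟩
  obtain ⟨c, hc⟩ := Ideal.mem_span_singleton'.1 h
  set E : MvPolynomial (Fin 4) L := ∑ i : Fin 4, C (eval b (pderiv i F)) * X i with hE
  obtain ⟨e, he⟩ : ∃ e : (Fin 4 → L) →ₗ[L] L, ∀ v, eval v E = e v :=
    ⟨∑ i, eval b (pderiv i F) • LinearMap.proj i, fun v => by simp [hE]⟩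
  have heb : e b = 0 := by
    have := congrArg (eval b) hF.sum_X_mul_pderiv
    simp only [map_sum, map_mul, eval_X, map_nsmul, hFb, smul_zero] at this
    rw [← he, hE, map_sum, ← this]
    exact Finset.sum_congr rfl fun i _ => by simp [mul_comm]
  have key : ∀ v, e v = 0 → eval v F = eval v L₁ * eval v L₂ * eval v L₃ := fun v hv => by
    have := congrArg (eval v) hc
    simp [he, hv] at this
    exact sub_eq_zero.1 this.symm
  have lin : ∀ {Q : MvPolynomial (Fin 4) L}, Q.IsHomogeneous 1 → ∃ l : (Fin 4 → L) →ₗ[L] L, ∀ v, eval v Q = l v :=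
    fun hQ => exists_functional _ hQ
  obtain ⟨l₁, hl₁⟩ := lin h₁
  obtain ⟨l₂, hl₂⟩ := lin h₂
  obtain ⟨l₃, hl₃⟩ := lin h₃
  have hb := key b heb
  rw [hFb, eq_comm, mul_eq_zero, mul_eq_zero] at hb
  obtain ⟨l, hlb, hlF⟩ : ∃ l : (Fin 4 → L) →ₗ[L] L, l b = 0 ∧ ∀ v, e v = 0 → l v = 0 → eval v F = 0 := by
    rcases hb with (h | h) | h
    · exact ⟨l₁, by rwa [← hl₁], fun v hv hv' => by simp [key v hv, hl₁, hv']⟩
    · exact ⟨l₂, by rwa [← hl₂], fun v hv hv' => by simp [key v hv, hl₂, hv']⟩
    · exact ⟨l₃, by rwa [← hl₃], fun v hv hv' => by simp [key v hv, hl₃, hv']⟩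
  let S : Submodule L (Fin 4 → L) := LinearMap.ker e ⊓ LinearMap.ker l
  have hS : 2 ≤ finrank L ↥S := by
    have e1 := Submodule.finrank_sup_add_finrank_inf_eq (LinearMap.ker e) (LinearMap.ker l)
    have e2 := LinearMap.finrank_range_add_finrank_ker e
    have e3 := LinearMap.finrank_range_add_finrank_ker l
    have e4 := (Submodule.finrank_le (LinearMap.range e)).trans_eq (Module.finrank_self L)
    have e5 := (Submodule.finrank_le (LinearMap.range l)).trans_eq (Module.finrank_self L)
    have e6 := Submodule.finrank_le (LinearMap.ker e ⊔ LinearMap.ker l)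
    simp only [Module.finrank_fin_fun] at e2 e3 e6
    show 2 ≤ finrank L ↥(LinearMap.ker e ⊓ LinearMap.ker l)
    omega
  obtain ⟨U, hU2, hbU, hUS⟩ : ∃ U : Submodule L (Fin 4 → L), finrank L ↥U = 2 ∧ b ∈ U ∧ U ≤ S := by
    have hbS : b ∈ S := ⟨heb, hlb⟩
    obtain ⟨s, hs⟩ := exists_linearIndependent_of_le_finrank (R := L) (M := ↥S) (n := 2) hS
    rcases eq_or_ne b 0 with rfl | hb0
    · refine ⟨Submodule.span L (Set.range fun i => (s i : Fin 4 → L)), ?_, zero_mem _, ?_⟩
      · exact (finrank_span_eq_card (hs.map' S.subtype (Submodule.ker_subtype S))).trans (Fintype.card_fin 2)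
      · rw [Submodule.span_le]; rintro _ ⟨i, rfl⟩; exact (s i).2
    · have hlt : Submodule.span L {b} < S := by
        refine lt_of_le_of_ne ((Submodule.span_singleton_le_iff_mem _ _).2 hbS) fun h => ?_
        rw [← h, finrank_span_singleton hb0] at hS
        omega
      obtain ⟨c, hc, hcb⟩ := SetLike.exists_of_lt hlt
      refine ⟨Submodule.span L {b, c}, ?_, Submodule.subset_span (by simp), ?_⟩
      · have hli : LinearIndependent L ![b, c] :=
          (LinearIndependent.pair_iff' hb0).2 fun t ht => hcb (Submodule.mem_span_singleton.2 ⟨t, ht⟩)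
        rw [← Matrix.range_cons_cons_empty b c ![], finrank_span_eq_card hli, Fintype.card_fin]
      · rw [Submodule.span_le]; rintro _ (rfl | rfl) <;> assumption
  obtain ⟨u, hu, hFu⟩ := hline U hU2 hbU
  exact hFu (hlF u (hUS hu).1 (hUS hu).2)

/-- Either there is a rational singular point or there are finitely many lines. -/
theorem singular_or_finite (F : MvPolynomial (Fin 4) k) (hF : F.IsHomogeneous 3)
    (hirr : Irreducible (map (algebraMap k (AlgebraicClosure k)) F))
    (hcone : ¬ ∃ v : Fin 4 → k, v ≠ 0 ∧ ∑ i : Fin 4, v i • pderiv i F = 0) :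
    (∃ a : Fin 4 → k, a ≠ 0 ∧ eval a F = 0 ∧ ∀ i, eval a (pderiv i F) = 0) ∨
      {U : Submodule (AlgebraicClosure k) (Fin 4 → AlgebraicClosure k) | finrank (AlgebraicClosure k) ↥U = 2 ∧
        ∀ u ∈ U, eval u (map (algebraMap k (AlgebraicClosure k)) F) = 0}.Finite := by
  classical
  set K := AlgebraicClosure k
  haveI : CharZero K := charZero_of_injective_algebraMap (algebraMap k K).injective
  set F₁ := map (algebraMap k K) F with hF₁
  obtain ⟨G, hG, hG', -⟩ := exists_cubic F₁ (hF.map _)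
  have hc := cone_descent (K := K) F hcone
  by_cases hdl : ∀ D, ¬ DoubleLine G D
  · right
    simp only [hG]
    exact finite_lines (hF.map _) hG hG' hirr hc hdl
  left
  push Not at hdl
  obtain ⟨D, hD⟩ := hdl
  have hsingiff : ∀ x : Fin 4 → K, (∀ w, G.T x x w = 0) ↔ ∀ i, eval x (pderiv i F₁) = 0 := fun x => by
    refine ⟨fun h i => by rw [hG', h, mul_zero], fun h w => ?_⟩
    rw [pi_eq_sum_univ' w, map_sum]
    refine Finset.sum_eq_zero fun i _ => ?_
    have h' := h i
    rw [hG', mul_eq_zero] at h'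
    rw [map_smul, h'.resolve_left (by norm_num), smul_zero]
  have hconj : ∀ (σ : K ≃ₐ[k] K) (x : Fin 4 → K), x ∈ D → (fun i => σ (x i)) ∈ D := fun σ x hx => by
    refine singular_mem_doubleLine (not_product hG hirr) hD ((hsingiff _).2 fun i => ?_)
    have h := (hsingiff x).1 (hD.2 x hx) i
    rw [hF₁, pderiv_map, eval_map] at h ⊢
    have h' := congrArg (σ : K →+* K) h
    rw [← coe_eval₂Hom, map_eval₂Hom] at h'
    rw [show (σ : K →+* K).comp (algebraMap k K) = algebraMap k K from RingHom.ext fun c => σ.commutes c, map_zero] at h'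
    exact h'
  -- a normalised point of the line
  obtain ⟨x, hxD, j, hxj⟩ : ∃ x ∈ D, ∃ j, x j ≠ 0 := by
    obtain ⟨x, hx, hx0⟩ := (Submodule.ne_bot_iff D).1 (fun h => by rw [h, DoubleLine, finrank_bot] at hD; omega)
    exact ⟨x, hx, by by_contra! h; exact hx0 (_root_.funext h)⟩
  let D' : Submodule K (Fin 4 → K) := D ⊓ LinearMap.ker (LinearMap.proj j)
  have hD'1 : finrank K ↥D' < 2 := by
    rw [← hD.1]
    exact Submodule.finrank_lt_finrank_of_lt (lt_of_le_of_ne inf_le_left fun h => hxj (h.ge hxD).2)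
  have hD'ne : D' ≠ ⊥ := fun h => by
    have e1 := Submodule.finrank_sup_add_finrank_inf_eq D (LinearMap.ker (LinearMap.proj j))
    have e2 := Submodule.finrank_le (D ⊔ LinearMap.ker (LinearMap.proj j : (Fin 4 → K) →ₗ[K] K))
    have e3 := LinearMap.finrank_range_add_finrank_ker (LinearMap.proj j : (Fin 4 → K) →ₗ[K] K)
    have e4 := (Submodule.finrank_le (LinearMap.range (LinearMap.proj j : (Fin 4 → K) →ₗ[K] K))).trans_eq
      (Module.finrank_self K)
    have e5 : finrank K ↥D' = 0 := by rw [h, finrank_bot]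
    have e6 := hD.1
    simp only [Module.finrank_fin_fun] at e2 e3
    change finrank K ↥(D ⊓ LinearMap.ker (LinearMap.proj j : (Fin 4 → K) →ₗ[K] K)) = 0 at e5
    omega
  obtain ⟨z, hzD, hz0⟩ := (Submodule.ne_bot_iff D').1 hD'ne
  have hspan : Submodule.span K {z} = D' :=
    Submodule.eq_of_le_of_finrank_le ((Submodule.span_singleton_le_iff_mem _ _).2 hzD)
      (by rw [finrank_span_singleton hz0]; omega)
  obtain ⟨l, hl⟩ : ∃ l, z l ≠ 0 := by
    by_contra! h
    exact hz0 (_root_.funext h)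
  set y : Fin 4 → K := (z l)⁻¹ • z with hy
  have hyD : y ∈ D := D.smul_mem _ hzD.1
  have hyj : y j = 0 := by simp [hy, show z j = 0 from hzD.2]
  have hyl : y l = 1 := by simp [hy, hl]
  have huniq : ∀ u ∈ D, u j = 0 → u l = 1 → u = y := fun u hu huj hul => by
    obtain ⟨c, rfl⟩ := Submodule.mem_span_singleton.1 (hspan.ge ⟨hu, huj⟩)
    rw [hy]
    congr 1
    simp only [Pi.smul_apply, smul_eq_mul] at hul
    exact eq_inv_of_mul_eq_one_left hul
  have hfix : ∀ i, ∃ c : k, algebraMap k K c = y i := fun i => algebraMap_of_fixed _ fun σ =>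
    congrFun (huniq _ (hconj σ y hyD) (by simp [hyj]) (by simp [hyl])) i
  choose a ha using hfix
  have hay : (fun i => algebraMap k K (a i)) = y := _root_.funext ha
  have hinj := (algebraMap k K).injective
  have heval : ∀ P : MvPolynomial (Fin 4) k, eval y (map (algebraMap k K) P) = algebraMap k K (eval a P) := fun P => by
    rw [← hay, eval_map, ← coe_eval₂Hom]
    exact (map_eval₂Hom (RingHom.id k) a (algebraMap k K) P).symm
  refine ⟨a, fun h => ?_, hinj ?_, fun i => hinj ?_⟩
  · have := ha l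
    rw [h, Pi.zero_apply, map_zero, hyl] at this
    exact zero_ne_one this
  · rw [← heval, map_zero, hG]; exact hD.2 y hyD y
  · rw [← heval, map_zero, ← pderiv_map]; exact (hsingiff y).1 (hD.2 y hyD) i

/-- The statement that there is a linear Pfaffian representation over `E`. -/
def HasRep (F : MvPolynomial (Fin 4) k) (E : Type v) [Field E] [Algebra k E] : Prop :=
  ∃ M : Matrix (Fin 6) (Fin 6) (MvPolynomial (Fin 4) E), (∀ i j, (M i j).IsHomogeneous 1) ∧
    M.transpose = -M ∧ (∀ i, M i i = 0) ∧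
      ∃ c : E, c ≠ 0 ∧ M.det = C c * (map (algebraMap k E) F) ^ 2

theorem exists_avoiding {K : Type v} [Field K] [Algebra k K] (S : Set (Submodule K (Fin 4 → K))) (hS : S.Finite)
    (hne : ∀ P ∈ S, P ≠ ⊤) : ∃ w : Fin 4 → k, ∀ P ∈ S, (fun i => algebraMap k K (w i)) ∉ P := by
  have hfun : ∀ P ∈ S, ∃ g : (Fin 4 → K) →ₗ[K] K, g ≠ 0 ∧ P ≤ LinearMap.ker g := fun P hP =>
    Submodule.exists_le_ker_of_lt_top P (lt_top_iff_ne_top.2 (hne P hP))
  choose g hg0 hg using hfun
  let q : ∀ P ∈ S, Polynomial K := fun P hP => ∑ i : Fin 4, Polynomial.C (g P hP (Pi.single i 1)) * Polynomial.X ^ (i : ℕ)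
  have hq0 : ∀ P hP, q P hP ≠ 0 := fun P hP h => hg0 P hP <| by
    refine LinearMap.ext fun v => ?_
    rw [pi_eq_sum_univ' v, map_sum, LinearMap.zero_apply]
    refine Finset.sum_eq_zero fun i _ => ?_
    have := congrArg (Polynomial.coeff · (i : ℕ)) h
    simp [q, Polynomial.coeff_C_mul, Polynomial.coeff_X_pow, Fin.val_inj] at this
    rw [map_smul, this, smul_zero]
  have hfin : (⋃ P ∈ S, {t : k | ∀ hP : P ∈ S, (q P hP).eval (algebraMap k K t) = 0}).Finite :=
    hS.biUnion fun P hP => (((Polynomial.finite_setOf_isRoot (hq0 P hP)).preimage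
      (algebraMap k K).injective.injOn).subset fun t ht => ht hP)
  obtain ⟨t, ht⟩ := hfin.exists_notMem
  simp only [Set.mem_iUnion, Set.mem_setOf_eq, not_exists, not_forall] at ht
  refine ⟨fun i => t ^ (i : ℕ), fun P hP hmem => ?_⟩
  obtain ⟨_, hne'⟩ := ht P hP
  refine hne' ?_
  have h0 : g P hP (fun i => algebraMap k K (t ^ (i : ℕ))) = 0 := hg P hP hmem
  rw [pi_eq_sum_univ' (fun i : Fin 4 => algebraMap k K (t ^ (i : ℕ))), map_sum] at h0
  rw [← h0, Polynomial.eval_finsetSum]
  exact Finset.sum_congr rfl fun i _ => by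
    rw [Polynomial.eval_mul, Polynomial.eval_C, Polynomial.eval_pow, Polynomial.eval_X, map_smul, smul_eq_mul, map_pow,
      mul_comm]

theorem exists_cubic_root_rep (F : MvPolynomial (Fin 4) k) (hF : F.IsHomogeneous 3)
    (hirr : Irreducible (map (algebraMap k (AlgebraicClosure k)) F))
    (hcone : ¬ ∃ v : Fin 4 → k, v ≠ 0 ∧ ∑ i : Fin 4, v i • pderiv i F = 0) :
    ∃ P : Polynomial k, P.natDegree = 3 ∧ ∀ (E : Type v) [Field E] [Algebra k E], FiniteDimensional k E →
      ∀ r : E, Polynomial.aeval r P = 0 → HasRep F E := by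
  classical
  rcases singular_or_finite F hF hirr hcone with ⟨a, ha0, hFa, ha⟩ | hfin
  · refine ⟨Polynomial.X ^ 3, Polynomial.natDegree_X_pow 3, fun E _ _ _ r _ => ?_⟩
    obtain ⟨M, h1, h2, h3, c, hc, h4⟩ := exists_rep_of_point F hF hirr hcone a ha0 hFa (notT_of_singular F hirr a ha)
    refine ⟨M.map (map (algebraMap k E)), fun i j => (h1 i j).map _, ?_, fun i => by simp [h3], algebraMap k E c,
      by simpa using hc, ?_⟩
    · rw [← Matrix.transpose_map, h2]
      ext i j : 1
      simp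
    · rw [← RingHom.mapMatrix_apply, ← RingHom.map_det, h4, map_mul, map_pow, map_C]
  set K := AlgebraicClosure k
  let ι := algebraMap k K
  -- a point off the surface
  obtain ⟨p, hp⟩ : ∃ p : Fin 4 → k, eval p F ≠ 0 := by
    by_contra! h
    exact (hirr.ne_zero) (by rw [MvPolynomial.funext (p := F) (q := 0) fun v => by simpa using h v]; simp)
  let pK : Fin 4 → K := fun i => ι (p i)
  set S := (fun U => Submodule.span K {pK} ⊔ U) '' {U : Submodule K (Fin 4 → K) | finrank K ↥U = 2 ∧
        ∀ u ∈ U, eval u (map ι F) = 0} ∪ {Submodule.span K {pK}}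
  have hsp : finrank K ↥(Submodule.span K {pK}) ≤ 1 := by
    simpa using finrank_span_le_card (R := K) ({pK} : Set (Fin 4 → K))
  obtain ⟨w, hw⟩ := exists_avoiding (k := k) S ((hfin.image _).union (Set.finite_singleton _)) (by
    intro P hP h
    subst h
    rcases hP with ⟨U, ⟨hU, -⟩, hP⟩ | hP
    · have h1 := Submodule.finrank_add_le_finrank_add_finrank (Submodule.span K {pK}) U
      rw [show Submodule.span K {pK} ⊔ U = ⊤ from hP, finrank_top, Module.finrank_fin_fun, hU] at h1
      omega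
    · rw [← (show ⊤ = Submodule.span K {pK} from hP), finrank_top, Module.finrank_fin_fun] at hsp
      omega)
  obtain ⟨G₀, hG₀, -, -⟩ := exists_cubic F hF
  let P : Polynomial k := Polynomial.C (G₀.F p) * Polynomial.X ^ 3 + Polynomial.C (3 * G₀.T p p w) * Polynomial.X ^ 2 +
    Polynomial.C (3 * G₀.T p w w) * Polynomial.X + Polynomial.C (G₀.F w)
  refine ⟨P, Polynomial.natDegree_cubic (by rw [← hG₀]; exact hp), fun E _ _ hE r hr => ?_⟩
  haveI := hE
  haveI : CharZero E := charZero_of_injective_algebraMap (algebraMap k E).injective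
  let φ : E →ₐ[k] K := IsAlgClosed.lift
  letI : Algebra E K := φ.toRingHom.toAlgebra
  haveI : IsScalarTower k E K := IsScalarTower.of_algebraMap_eq fun c => (φ.commutes c).symm
  haveI : Algebra.IsAlgebraic E K := Algebra.IsAlgebraic.tower_top (K := k) E
  haveI : IsAlgClosure E K := ⟨inferInstance, inferInstance⟩
  let ψ : AlgebraicClosure E ≃ₐ[E] K := IsAlgClosure.equiv E (AlgebraicClosure E) K
  -- the point
  set b : Fin 4 → E := fun i => r * algebraMap k E (p i) + algebraMap k E (w i) with hb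
  set FE := map (algebraMap k E) F with hFE
  have hFb : eval b FE = 0 := by
    obtain ⟨G, hG, -, -⟩ := exists_cubic FE (hF.map _)
    set ιE := algebraMap k E
    have hFF : ∀ v, G.F (fun i => ιE (v i)) = ιE (G₀.F v) := fun v => by
      rw [← hG, ← hG₀, hFE, eval_map, ← coe_eval₂Hom]
      exact (map_eval₂Hom (RingHom.id k) v ιE F).symm
    have hTT : ∀ u v x, G.T (fun i => ιE (u i)) (fun i => ιE (v i)) (fun i => ιE (x i)) = ιE (G₀.T u v x) := by
      intro u v x
      have hadd : ∀ y z : Fin 4 → k, (fun i => ιE ((y + z) i)) = (fun i => ιE (y i)) + fun i => ιE (z i) := fun y z => by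
        ext i; simp
      have h1 := G.polar₃ (fun i => ιE (u i)) (fun i => ιE (v i)) (fun i => ιE (x i))
      simp only [← hadd, hFF] at h1
      have h2 := congrArg ιE (G₀.polar₃ u v x)
      simp only [map_add, map_sub, map_mul, map_ofNat] at h2
      rw [← h2] at h1
      exact mul_left_cancel₀ (by norm_num) h1
    have e : b = r • (fun i => ιE (p i)) + (1 : E) • fun i => ιE (w i) := by ext i; simp [hb]
    rw [hG, e, G.F_comb₂, hFF, hFF, hTT, hTT]
    simp [P, map_mul, map_ofNat] at hr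
    simp only [ιE]
    linear_combination hr
  have hcomm : (ψ : AlgebraicClosure E →+* K).comp ((algebraMap E (AlgebraicClosure E)).comp (algebraMap k E)) = ι :=
    RingHom.ext fun c => by simp [ι, ← IsScalarTower.algebraMap_apply k E K]
  have hirrE : Irreducible (map (algebraMap E (AlgebraicClosure E)) FE) := by
    rw [hFE, map_map]
    refine (MulEquiv.irreducible_iff (MvPolynomial.mapEquiv (Fin 4) ψ.toRingEquiv)).1 ?_
    rw [MvPolynomial.mapEquiv_apply, map_map]
    exact hcomm ▸ hirr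
  -- the point lies on no line
  have hnT : NotT FE b := by
    rintro ⟨L₁, L₂, L₃, h₁, h₂, h₃, h⟩
    let Ψ : MvPolynomial (Fin 4) (AlgebraicClosure E) →+* MvPolynomial (Fin 4) K := map (ψ : AlgebraicClosure E →+* K)
    let bK : Fin 4 → K := fun i => φ (b i)
    have hFK : Ψ (map (algebraMap E (AlgebraicClosure E)) FE) = map ι F := by
      simp only [Ψ, hFE, map_map, hcomm]
    have hev : ∀ Q : MvPolynomial (Fin 4) k, φ (eval b (map (algebraMap k E) Q)) = eval bK (map ι Q) := fun Q => by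
      rw [eval_map, eval_map, ← coe_eval₂Hom, ← AlgHom.coe_toRingHom, map_eval₂Hom, φ.comp_algebraMap]
      rfl
    refine no_split (map ι F) (hF.map _) bK (by rw [← hev, ← hFE, hFb, map_zero]) (fun U hU hbU => ?_)
      ⟨Ψ L₁, Ψ L₂, Ψ L₃, h₁.map _, h₂.map _, h₃.map _, ?_⟩
    · by_contra! hUF
      refine hw _ (Or.inl ⟨U, ⟨hU, hUF⟩, rfl⟩) ?_
      refine Submodule.mem_sup.2 ⟨(-φ r) • pK, Submodule.smul_mem _ _ (Submodule.mem_span_singleton_self _), bK, hbU, ?_⟩
      ext i
      simp [pK, bK, hb, ι]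
    · have h' := Ideal.mem_map_of_mem Ψ h
      rw [Ideal.map_span, Set.image_singleton, map_sub, map_mul, map_mul, hFK, map_sum] at h'
      convert h' using 5 with i
      simp only [Ψ, map_mul, map_C, map_X, hFE, pderiv_map]
      rw [← hev]
      congr 2
      exact (AlgEquiv.commutes ψ _).symm
  have hb0 : b ≠ 0 := fun h => by
    refine hw _ (Or.inr rfl) (Submodule.mem_span_singleton.2 ⟨-φ r, ?_⟩)
    ext i
    have h' := congrArg φ (congrFun h i)
    simp [hb] at h'
    show (-φ r) * ι (p i) = _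
    linear_combination -h'
  exact exists_rep_of_point FE (hF.map _) hirrE (cone_descent (K := E) F hcone) b hb0 hFb hnT

/-- The field generated by a root of the cubic. -/
theorem exists_field {L : Type v} [Field L] [Algebra k L] (P : Polynomial k) (hP : P.natDegree = 3) (r : L)
    (hr : Polynomial.aeval r P = 0) :
    FiniteDimensional k ↥(IntermediateField.adjoin k {r}) ∧
      finrank k ↥(IntermediateField.adjoin k {r}) ≤ 3 ∧
      Polynomial.aeval (IntermediateField.AdjoinSimple.gen k r) P = 0 := by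
  have hP0 : P ≠ 0 := fun h => by simp [h] at hP
  have hint : IsIntegral k r := IsAlgebraic.isIntegral ⟨P, hP0, hr⟩
  refine ⟨IntermediateField.adjoin.finiteDimensional hint, ?_, ?_⟩
  · rw [IntermediateField.adjoin.finrank hint, ← hP]
    exact Polynomial.natDegree_le_of_dvd (minpoly.dvd k r hr) hP0
  · apply Subtype.val_injective
    simpa using hr

end MainProof

end Groth.Agent.Cubic27
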