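import Groth.Agent.Cubic27.TPoint
import Groth.Agent.Incid42.Poly
import Mathlib.FieldTheory.IsAlgClosed.AlgebraicClosure

/-!
# Rational points in general position on a cubic surface
-/

set_option autoImplicit false

universe u

open Module LefPen
open Groth.Agent.CubicLib

namespace Groth.Agent.Cubic27

variable {K : Type u} [Field K] [CharZero K] {G : Cubic K (Fin 4 → K)}

/-- The quadratic form `T a · ·` on the pencil `x₁ + τ x₂`. -/
def qf (G : Cubic K (Fin 4 → K)) (a x₁ x₂ : Fin 4 → K) (τ : K) : K :=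
  G.T a x₁ x₁ + 2 * τ * G.T a x₁ x₂ + τ ^ 2 * G.T a x₂ x₂

/-- The cubic form on the pencil `x₁ + τ x₂`. -/
def cf (G : Cubic K (Fin 4 → K)) (x₁ x₂ : Fin 4 → K) (τ : K) : K :=
  G.F x₁ + 3 * τ * G.T x₁ x₁ x₂ + 3 * τ ^ 2 * G.T x₁ x₂ x₂ + τ ^ 3 * G.F x₂

/-- The rational parametrisation of the tangent section at `a`. -/
def sectionCurve (G : Cubic K (Fin 4 → K)) (a x₁ x₂ : Fin 4 → K) (τ : K) : Fin 4 → K :=
  (3 * qf G a x₁ x₂ τ) • (x₁ + τ • x₂) - cf G x₁ x₂ τ • a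

/-- The binary cubic is not a multiple of the binary quadratic form. -/
def NoFactor (G : Cubic K (Fin 4 → K)) (a x₁ x₂ : Fin 4 → K) : Prop :=
  ¬ ∃ m₁ m₂ : K, G.F x₁ = G.T a x₁ x₁ * m₁ ∧
    3 * G.T x₁ x₁ x₂ = G.T a x₁ x₁ * m₂ + 2 * G.T a x₁ x₂ * m₁ ∧
    3 * G.T x₁ x₂ x₂ = 2 * G.T a x₁ x₂ * m₂ + G.T a x₂ x₂ * m₁ ∧ G.F x₂ = G.T a x₂ x₂ * m₂

/-- A basis of the tangent plane. -/
structure TBasis (G : Cubic K (Fin 4 → K)) (a x₁ x₂ : Fin 4 → K) : Prop where
  onS : G.F a = 0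
  h₁ : G.T a a x₁ = 0
  h₂ : G.T a a x₂ = 0
  ind : ∀ α s t : K, α • a + s • x₁ + t • x₂ = 0 → α = 0 ∧ s = 0 ∧ t = 0
  spans : ∀ v, G.T a a v = 0 → ∃ α s t : K, v = α • a + s • x₁ + t • x₂

theorem exists_TBasis {a : Fin 4 → K} (hFa : G.F a = 0) (hsm : ∃ v, G.T a a v ≠ 0) (ha0 : a ≠ 0) :
    ∃ x₁ x₂, TBasis G a x₁ x₂ := by
  obtain ⟨e, he⟩ := hsm
  have hFa' : G.T a a a = 0 := hFa
  have hae : LinearIndependent K ![a, e] := LinearIndependent.pair_iff.2 fun p q hpq => by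
    have h := congrArg (G.T a a) hpq
    simp [hFa', he] at h
    rw [h, zero_smul, add_zero] at hpq
    exact ⟨(smul_eq_zero.1 hpq).resolve_right ha0, h⟩
  obtain ⟨w₁, hw₁⟩ := exists_linearIndependent_snoc_of_lt_finrank hae (by rw [Module.finrank_fin_fun]; norm_num)
  obtain ⟨w₂, hw₂⟩ := exists_linearIndependent_snoc_of_lt_finrank hw₁ (by rw [Module.finrank_fin_fun]; norm_num)
  have htop : Submodule.span K (Set.range (Fin.snoc (Fin.snoc ![a, e] w₁) w₂)) = ⊤ :=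
    Submodule.eq_top_of_finrank_eq (by rw [finrank_span_eq_card hw₂, Module.finrank_fin_fun, Fintype.card_fin])
  set x₁ : Fin 4 → K := w₁ - (G.T a a w₁ / G.T a a e) • e with hx₁
  set x₂ : Fin 4 → K := w₂ - (G.T a a w₂ / G.T a a e) • e with hx₂
  refine ⟨x₁, x₂, hFa, by simp [hx₁, he], by simp [hx₂, he], fun α s t h0 => ?_, fun v hv => ?_⟩
  · have h := Fintype.linearIndependent_iff.1 hw₂
      ![α, -(s * (G.T a a w₁ / G.T a a e) + t * (G.T a a w₂ / G.T a a e)), s, t] (by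
      simp [Fin.sum_univ_four, Fin.snoc]
      rw [← h0, hx₁, hx₂]; module)
    exact ⟨h 0, h 2, h 3⟩
  · obtain ⟨d, hd⟩ := (Submodule.mem_span_range_iff_exists_fun K).1 (htop ▸ Submodule.mem_top :
      v ∈ Submodule.span K (Set.range (Fin.snoc (Fin.snoc ![a, e] w₁) w₂)))
    simp [Fin.sum_univ_four, Fin.snoc] at hd
    refine ⟨d 0, d 2, d 3, ?_⟩
    have h := hv
    rw [← hd] at h
    simp [hFa'] at h
    have hd1 : d 1 = -(d 2 * (G.T a a w₁ / G.T a a e) + d 3 * (G.T a a w₂ / G.T a a e)) := by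
      field_simp; linear_combination h
    rw [← hd, hd1, hx₁, hx₂]; module

theorem noFactor_of_not_Tpt [IsAlgClosed K] {a x₁ x₂ : Fin 4 → K} (hb : TBasis G a x₁ x₂)
    (hsm : ∃ v, G.T a a v ≠ 0) (hnT : ¬ Tpt G a) :
    NoFactor G a x₁ x₂ ∧ ¬ (G.T a x₁ x₁ = 0 ∧ G.T a x₁ x₂ = 0 ∧ G.T a x₂ x₂ = 0) := by
  refine ⟨fun ⟨m₁, m₂, e0, e1, e2, e3⟩ => ?_, quad_ne_zero hb.onS hsm hnT x₁ x₂ hb.h₁ hb.h₂ hb.ind⟩
  obtain ⟨A, S, T, hc⟩ := tangent_coords hb.onS hsm x₁ x₂ hb.h₁ hb.h₂ hb.ind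
  rcases eq_or_ne (G.T a x₁ x₁) 0 with h | h
  · refine hnT ⟨T, (2 * G.T a x₁ x₂) • S + G.T a x₂ x₂ • T, (3 : K) • A + m₁ • S + m₂ • T, fun v hv => ?_⟩
    conv_lhs => rw [hc v hv, F_tangent hb.onS hb.h₁ hb.h₂, h, e0, h, e3]
    rw [h] at e1
    simp
    linear_combination (S v ^ 2 * T v) * e1 + (S v * T v ^ 2) * e2
  · obtain ⟨r, hr⟩ := Cubic.exists_root_quadratic (G.T a x₁ x₁) (2 * G.T a x₁ x₂) (G.T a x₂ x₂) h
    refine hnT ⟨S - r • T, G.T a x₁ x₁ • S + (2 * G.T a x₁ x₂ + G.T a x₁ x₁ * r) • T,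
      (3 : K) • A + m₁ • S + m₂ • T, fun v hv => ?_⟩
    conv_lhs => rw [hc v hv, F_tangent hb.onS hb.h₁ hb.h₂, e0, e3]
    simp
    linear_combination (S v ^ 2 * T v) * e1 + (S v * T v ^ 2) * e2 +
      (T v ^ 2 * (3 * A v + m₁ * S v + m₂ * T v)) * hr

theorem isPoly_qf (a x₁ x₂ : Fin 4 → K) : IsPoly₁ (qf G a x₁ x₂) :=
  ⟨Polynomial.C (G.T a x₁ x₁) + 2 * Polynomial.X * Polynomial.C (G.T a x₁ x₂) +
    Polynomial.X ^ 2 * Polynomial.C (G.T a x₂ x₂), fun t => by simp [qf]; ring⟩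

theorem isPolyVec_sectionCurve (a x₁ x₂ : Fin 4 → K) : IsPolyVec (sectionCurve G a x₁ x₂) := by
  have hC : IsPoly₁ (cf G x₁ x₂) := ⟨Polynomial.C (G.F x₁) + 3 * Polynomial.X * Polynomial.C (G.T x₁ x₁ x₂) +
      3 * Polynomial.X ^ 2 * Polynomial.C (G.T x₁ x₂ x₂) + Polynomial.X ^ 3 * Polynomial.C (G.F x₂),
      fun t => by simp [cf]; ring⟩
  exact (IsPolyVec.smul ((IsPoly₁.const 3).mul (isPoly_qf a x₁ x₂))
    ((IsPolyVec.const x₁).add (IsPolyVec.smul IsPoly₁.id' (.const x₂)))).sub (IsPolyVec.smul hC (.const a))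

theorem finite_qf_zero {a x₁ x₂ : Fin 4 → K} (h : ¬ (G.T a x₁ x₁ = 0 ∧ G.T a x₁ x₂ = 0 ∧ G.T a x₂ x₂ = 0)) :
    {τ : K | qf G a x₁ x₂ τ = 0}.Finite := by
  obtain ⟨p, hp⟩ := isPoly_qf (G := G) a x₁ x₂
  refine (Polynomial.finite_setOfPred_isRoot (p := p) fun h0 => h ?_).subset fun τ hτ => by
    show p.eval τ = 0
    rw [hp]; exact hτ
  have h' : ∀ τ, qf G a x₁ x₂ τ = 0 := fun τ => by rw [← hp, h0, Polynomial.eval_zero]
  have a0 := h' 0; have a1 := h' 1; have a2 := h' (-1)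
  simp [qf] at a0 a1 a2
  exact ⟨a0, by linear_combination (a1 - a2) / 4, by linear_combination (a1 + a2) / 2 - a0⟩

theorem section_facts {a x₁ x₂ : Fin 4 → K} (hb : TBasis G a x₁ x₂) (τ : K) :
    G.F (sectionCurve G a x₁ x₂ τ) = 0 ∧ G.T a a (sectionCurve G a x₁ x₂ τ) = 0 ∧
      G.T (sectionCurve G a x₁ x₂ τ) (sectionCurve G a x₁ x₂ τ) a = 9 * qf G a x₁ x₂ τ ^ 3 := by
  have hFa : G.T a a a = 0 := hb.onS
  have e : sectionCurve G a x₁ x₂ τ = (-cf G x₁ x₂ τ) • a + (3 * qf G a x₁ x₂ τ) • x₁ +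
      (3 * qf G a x₁ x₂ τ * τ) • x₂ := by
    simp only [sectionCurve]; module
  refine ⟨?_, ?_, ?_⟩
  · rw [e, F_tangent hb.onS hb.h₁ hb.h₂]; simp only [cf, qf]; ring
  · rw [e]; simp [hFa, hb.h₁, hb.h₂]
  · rw [e, G.symm₁₃]
    simp only [map_add, map_smul, LinearMap.add_apply, LinearMap.smul_apply, smul_eq_mul, hFa, hb.h₁, hb.h₂,
      G.symm₂₃ a x₁ a, G.symm₂₃ a x₂ a, G.symm₂₃ a x₂ x₁, qf]
    ring

theorem finite_section_meet {a x₁ x₂ : Fin 4 → K} (hb : TBasis G a x₁ x₂) (hnf : NoFactor G a x₁ x₂)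
    (hq : ¬ (G.T a x₁ x₁ = 0 ∧ G.T a x₁ x₂ = 0 ∧ G.T a x₂ x₂ = 0)) (g : (Fin 4 → K) →ₗ[K] K)
    (hg : ∃ v, G.T a a v = 0 ∧ g v ≠ 0) : {τ : K | g (sectionCurve G a x₁ x₂ τ) = 0}.Finite := by
  obtain ⟨p, hp⟩ : IsPoly₁ fun τ => g (sectionCurve G a x₁ x₂ τ) := by
    have hv := isPolyVec_sectionCurve (G := G) a x₁ x₂
    have e : (fun τ => g (sectionCurve G a x₁ x₂ τ)) =
        fun τ => ∑ i, sectionCurve G a x₁ x₂ τ i * g (Pi.single i 1) := funext fun τ => by
      conv_lhs => rw [pi_eq_sum_univ' (sectionCurve G a x₁ x₂ τ)]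
      simp
    rw [e]
    exact .sum _ fun i => (hv i).mul (.const _)
  refine (Polynomial.finite_setOfPred_isRoot (p := p) fun h0 => ?_).subset fun τ hτ => by
    show p.eval τ = 0
    rw [hp]; exact hτ
  have h : ∀ τ, 3 * qf G a x₁ x₂ τ * (g x₁ + τ * g x₂) - cf G x₁ x₂ τ * g a = 0 := fun τ => by
    have h' := hp τ
    rw [h0, Polynomial.eval_zero] at h'
    have h'' := h'.symm
    simp [sectionCurve] at h''
    linear_combination h''
  have a0 := h 0; have a1 := h 1; have a2 := h (-1); have a3 := h 2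
  simp [qf, cf] at a0 a1 a2 a3
  by_cases hga : g a = 0
  · simp [hga] at a0 a1 a2 a3
    have hz : ∀ τ, qf G a x₁ x₂ τ ≠ 0 → g x₁ + τ * g x₂ = 0 := fun τ hτ => by
      have := h τ
      rw [hga, mul_zero, sub_zero] at this
      simpa [hτ] using this
    obtain ⟨τ₁, hτ₁⟩ := (finite_qf_zero hq).exists_notMem
    obtain ⟨τ₂, hτ₂⟩ := ((finite_qf_zero hq).insert τ₁).exists_notMem
    rw [Set.mem_insert_iff, not_or] at hτ₂
    have b1 := hz τ₁ hτ₁; have b2 := hz τ₂ hτ₂.2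
    have g2 : g x₂ = 0 := (mul_eq_zero.1 (show (τ₂ - τ₁) * g x₂ = 0 by linear_combination b2 - b1)).resolve_left
      (sub_ne_zero.2 hτ₂.1)
    have g1 : g x₁ = 0 := by rw [g2, mul_zero, add_zero] at b1; exact b1
    obtain ⟨v, hv, hgv⟩ := hg
    obtain ⟨α, s, t, rfl⟩ := hb.spans v hv
    exact hgv (by simp [hga, g1, g2])
  · refine hnf ⟨3 * g x₁ / g a, 3 * g x₂ / g a, ?_, ?_, ?_, ?_⟩
    · apply mul_right_cancel₀ hga
      simp only [add_mul, mul_assoc, div_mul_cancel₀ _ hga]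
      linear_combination -a0
    · apply mul_right_cancel₀ hga
      simp only [add_mul, mul_assoc, div_mul_cancel₀ _ hga]
      linear_combination (1 / 2 : K) * a0 - a1 + (1 / 3 : K) * a2 + (1 / 6 : K) * a3
    · apply mul_right_cancel₀ hga
      simp only [add_mul, mul_assoc, div_mul_cancel₀ _ hga]
      linear_combination a0 - (1 / 2 : K) * a1 - (1 / 2 : K) * a2
    · apply mul_right_cancel₀ hga
      simp only [add_mul, mul_assoc, div_mul_cancel₀ _ hga]
      linear_combination -(1 / 2 : K) * a0 + (1 / 2 : K) * a1 + (1 / 6 : K) * a2 - (1 / 6 : K) * a3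

omit [CharZero K] in
theorem expand_linear (g : (Fin 4 → K) →ₗ[K] K) (v : Fin 4 → K) : g v = ∑ i, v i * g (Pi.single i 1) := by
  conv_lhs => rw [pi_eq_sum_univ' v]
  simp

/-- Five points in general position. -/
theorem exists_five {a : Fin 4 → K} (ha : a ≠ 0) (hFa : G.F a = 0)
    (hR : ∀ (N : Finset ((Fin 4 → K) →ₗ[K] K)), (∀ g ∈ N, g ≠ 0) → ∃ x, G.F x = 0 ∧ ∀ g ∈ N, g x ≠ 0) :
    ∃ p : Fin 5 → (Fin 4 → K), p 0 = a ∧ (∀ j, G.F (p j) = 0) ∧
      ∀ j : Fin 5, LinearIndependent K (fun i : Fin 4 => p (j.succAbove i)) := by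
  classical
  have step : ∀ {n : ℕ} (q : Fin n → (Fin 4 → K)), LinearIndependent K q → n < 4 →
      ∃ x, G.F x = 0 ∧ LinearIndependent K (Fin.snoc q x : Fin (n + 1) → (Fin 4 → K)) := by
    intro n q hq hn
    have hlt : Submodule.span K (Set.range q) < ⊤ := lt_top_iff_ne_top.2 fun h => by
      have := finrank_span_eq_card hq
      rw [h, finrank_top, Module.finrank_fin_fun, Fintype.card_fin] at this
      omega
    obtain ⟨g, hg0, hg⟩ := Submodule.exists_le_ker_of_lt_top _ hlt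
    obtain ⟨x, hx, hgx⟩ := hR {g} (by simpa using hg0)
    exact ⟨x, hx, linearIndependent_finSnoc.2 ⟨hq, fun h => hgx g (Finset.mem_singleton_self g) (hg h)⟩⟩
  have h0 : LinearIndependent K ![a] := linearIndependent_unique_iff.2 (by simpa using ha)
  obtain ⟨x₁, f1, l1⟩ := step _ h0 (by norm_num)
  obtain ⟨x₂, f2, l2⟩ := step _ l1 (by norm_num)
  obtain ⟨x₃, f3, l3⟩ := step _ l2 (by norm_num)
  have hq : (Fin.snoc (Fin.snoc (Fin.snoc ![a] x₁) x₂) x₃ : Fin 4 → (Fin 4 → K)) = ![a, x₁, x₂, x₃] := by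
    ext i : 1; fin_cases i <;> rfl
  rw [hq] at l3
  let bas := basisOfLinearIndependentOfCardEqFinrank l3 (by simp)
  obtain ⟨x₄, f4, hx₄⟩ := hR (Finset.univ.image fun i => bas.coord i) (fun g hg => by
    obtain ⟨i, -, rfl⟩ := Finset.mem_image.1 hg
    intro h
    simpa [bas.repr_self] using LinearMap.congr_fun h (bas i))
  have hc : ∀ i, bas.repr x₄ i ≠ 0 := fun i => hx₄ _ (Finset.mem_image_of_mem _ (Finset.mem_univ i))
  have hbas : ∀ i, bas i = ![a, x₁, x₂, x₃] i := fun i => by simp [bas]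
  have hx4 := bas.sum_repr x₄
  rw [Fin.sum_univ_four, hbas, hbas, hbas, hbas] at hx4
  simp at hx4
  refine ⟨![a, x₁, x₂, x₃, x₄], rfl, fun j => by fin_cases j <;> simp [hFa, f1, f2, f3, f4], fun j => ?_⟩
  refine Fintype.linearIndependent_iff.2 fun d hd => ?_
  have hl := Fintype.linearIndependent_iff.1 l3
  have c0 := hc 0; have c1 := hc 1; have c2 := hc 2; have c3 := hc 3
  generalize bas.repr x₄ 0 = e0 at c0 hx4
  generalize bas.repr x₄ 1 = e1 at c1 hx4
  generalize bas.repr x₄ 2 = e2 at c2 hx4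
  generalize bas.repr x₄ 3 = e3 at c3 hx4
  fin_cases j <;> simp [Fin.sum_univ_four, Fin.succAbove, ← hx4] at hd
  · have h := hl ![d 3 * e0, d 0 + d 3 * e1, d 1 + d 3 * e2, d 2 + d 3 * e3] (by
      simp [Fin.sum_univ_four]; rw [← hd]; module)
    have h3 : d 3 = 0 := by simpa [c0] using h 0
    intro i; fin_cases i
    · simpa [h3] using h 1
    · simpa [h3] using h 2
    · simpa [h3] using h 3
    · exact h3
  · have h := hl ![d 0 + d 3 * e0, d 3 * e1, d 1 + d 3 * e2, d 2 + d 3 * e3] (by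
      simp [Fin.sum_univ_four]; rw [← hd]; module)
    have h3 : d 3 = 0 := by simpa [c1] using h 1
    intro i; fin_cases i
    · simpa [h3] using h 0
    · simpa [h3] using h 2
    · simpa [h3] using h 3
    · exact h3
  · have h := hl ![d 0 + d 3 * e0, d 1 + d 3 * e1, d 3 * e2, d 2 + d 3 * e3] (by
      simp [Fin.sum_univ_four]; rw [← hd]; module)
    have h3 : d 3 = 0 := by simpa [c2] using h 2
    intro i; fin_cases i
    · simpa [h3] using h 0
    · simpa [h3] using h 1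
    · simpa [h3] using h 3
    · exact h3
  · have h := hl ![d 0 + d 3 * e0, d 1 + d 3 * e1, d 2 + d 3 * e2, d 3 * e3] (by
      simp [Fin.sum_univ_four]; rw [← hd]; module)
    have h3 : d 3 = 0 := by simpa [c3] using h 3
    intro i; fin_cases i
    · simpa [h3] using h 0
    · simpa [h3] using h 1
    · simpa [h3] using h 2
    · exact h3
  · exact hl d (by simp [Fin.sum_univ_four]; exact hd)

/-- Projection from a singular point. -/
theorem dense_singular {a : Fin 4 → K} (ha : a ≠ 0) (hsing : ∀ w, G.T a a w = 0) (hT : G.T a ≠ 0)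
    (hirr : ∀ (L : (Fin 4 → K) →ₗ[K] K) (B : (Fin 4 → K) →ₗ[K] (Fin 4 → K) →ₗ[K] K),
      ¬ ∀ v, G.F v = L v * B v v)
    (N : Finset ((Fin 4 → K) →ₗ[K] K)) (hN : ∀ g ∈ N, g ≠ 0) : ∃ x, G.F x = 0 ∧ ∀ g ∈ N, g x ≠ 0 := by
  classical
  let W := Fin 4 → K
  let P : W → W := fun x => (3 * G.T a x x) • x - G.F x • a
  have hF : ∀ x, G.F (P x) = 0 := fun x => by
    have := F_adapted G hsing (-G.F x) ((3 * G.T a x x) • x)
    simp only [P]
    rw [show (3 * G.T a x x) • x - G.F x • a = (-G.F x) • a + (3 * G.T a x x) • x by module, this, G.F_smul]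
    simp only [map_smul, LinearMap.smul_apply, smul_eq_mul]
    ring
  let bas := Pi.basisFun K (Fin 4)
  have lin : ∀ l : W →ₗ[K] K, IsPolyFun K fun x : W => l x := fun l => Incid42.isPolyFun_linear l
  have hq : IsPolyFun K fun x : W => G.T a x x := by
    have e : (fun x : W => G.T a x x) = fun x => ∑ i, x i * G.T a (Pi.single i 1) x := funext fun x => by
      show (G.T a).flip x x = _
      rw [expand_linear ((G.T a).flip x) x]
      rfl
    rw [e]
    exact Incid42.isPolyFun_sum _ _ fun i _ => Incid42.isPolyFun_mul (lin (LinearMap.proj i)) (lin _)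
  have hC : IsPolyFun K fun x : W => G.F x := by
    have e : (fun x : W => G.F x) = fun x => ∑ i, x i * ∑ j, x j * G.T (Pi.single i 1) (Pi.single j 1) x := funext fun x => by
      show G.T x x x = _
      rw [expand_linear (G.T x x) x]
      refine Finset.sum_congr rfl fun i _ => ?_
      rw [G.symm₁₃ x x (Pi.single i 1), expand_linear (G.T (Pi.single i 1) x) x]
      refine congrArg (x i * ·) (Finset.sum_congr rfl fun j _ => ?_)
      rw [G.symm₂₃ (Pi.single i 1) x]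
    rw [e]
    exact Incid42.isPolyFun_sum _ _ fun i _ => Incid42.isPolyFun_mul (lin (LinearMap.proj i))
      (Incid42.isPolyFun_sum _ _ fun j _ => Incid42.isPolyFun_mul (lin (LinearMap.proj j)) (lin _))
  have hg : ∀ g ∈ N, ∃ x, g (P x) ≠ 0 := by
    intro g hg
    by_contra! hc
    have hc' : ∀ x, 3 * G.T a x x * g x = G.F x * g a := fun x => by
      have := hc x
      simp only [P, map_sub, map_smul, smul_eq_mul] at this
      linear_combination this
    by_cases hga : g a = 0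
    · have hpol : ∀ x, G.T a x x * g x = 0 := fun x => by
        have := hc' x
        rw [hga, mul_zero, mul_assoc] at this
        simpa using this
      obtain ⟨pq, hpq⟩ := Incid42.exists_eval_eq bas hq
      obtain ⟨pg, hpg⟩ := Incid42.exists_eval_eq bas (lin g)
      have : pq * pg = 0 := MvPolynomial.funext fun x => by
        have h1 := hpq x
        have h2 := hpg x
        simp only [bas, Pi.basisFun_repr] at h1 h2
        rw [map_mul, map_zero, ← h1, ← h2]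
        exact hpol x
      rcases mul_eq_zero.1 this with h | h
      · refine hT (LinearMap.ext fun x => LinearMap.ext fun y => ?_)
        have z : ∀ x, G.T a x x = 0 := fun x => by rw [hpq x, h, map_zero]
        have := z (x + y)
        simp [z x, z y, G.symm₂₃ a y x] at this
        exact this
      · exact hN g hg (LinearMap.ext fun x => by rw [hpg x, h, map_zero]; rfl)
    · refine hirr ((3 / g a) • g) (G.T a) fun v => ?_
      simp only [LinearMap.smul_apply, smul_eq_mul]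
      have := hc' v
      field_simp
      linear_combination -this
  obtain ⟨p, hp⟩ := Incid42.exists_eval_eq bas (Incid42.isPolyFun_prod N (fun g x => g (P x)) fun g _ => by
    have e : (fun x : W => g (P x)) = fun x => 3 * G.T a x x * g x - G.F x * g a := funext fun x => by simp [P]
    rw [e]
    exact Incid42.isPolyFun_sub (Incid42.isPolyFun_mul (Incid42.isPolyFun_mul (Incid42.isPolyFun_const _) hq) (lin g))
      (Incid42.isPolyFun_mul hC (Incid42.isPolyFun_const _)))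
  by_contra! hc
  have hp0 : p = 0 := MvPolynomial.funext fun x => by
    obtain ⟨g, hgN, hgx⟩ := hc (P x) (hF x)
    have h := hp x
    simp only [bas, Pi.basisFun_repr] at h
    rw [map_zero, ← h]
    exact Finset.prod_eq_zero hgN hgx
  have hprod : ∀ g ∈ N, ∃ q : MvPolynomial (Fin 4) K, q ≠ 0 ∧ ∀ x, g (P x) = MvPolynomial.eval x q := by
    intro g hgN
    obtain ⟨q, hq'⟩ := Incid42.exists_eval_eq bas (f := fun x : W => g (P x)) (by
      have e : (fun x : W => g (P x)) = fun x => 3 * G.T a x x * g x - G.F x * g a := funext fun x => by simp [P]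
      rw [e]
      exact Incid42.isPolyFun_sub (Incid42.isPolyFun_mul (Incid42.isPolyFun_mul (Incid42.isPolyFun_const _) hq) (lin g))
        (Incid42.isPolyFun_mul hC (Incid42.isPolyFun_const _)))
    refine ⟨q, fun h0 => ?_, fun x => by have := hq' x; simp only [bas, Pi.basisFun_repr] at this; exact this⟩
    obtain ⟨x, hx⟩ := hg g hgN
    exact hx (by rw [show g (P x) = _ from hq' x, h0, map_zero])
  choose q hq0 hqe using hprod
  have : (∏ g ∈ N.attach, q g.1 g.2) = 0 := MvPolynomial.funext fun x => by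
    obtain ⟨g, hgN, hgx⟩ := hc (P x) (hF x)
    rw [map_prod, map_zero]
    exact Finset.prod_eq_zero (Finset.mem_attach N ⟨g, hgN⟩) ((hqe g hgN x).symm.trans hgx)
  exact Finset.prod_ne_zero_iff.2 (fun g _ => hq0 g.1 g.2) this

section Extension

variable {k : Type u} [Field k] [CharZero k]

/-- Extension of scalars of a vector. -/
noncomputable def ext' (v : Fin 4 → k) : Fin 4 → AlgebraicClosure k :=
  fun i => algebraMap k (AlgebraicClosure k) (v i)

variable {G₀ : Cubic k (Fin 4 → k)} {G₁ : Cubic (AlgebraicClosure k) (Fin 4 → AlgebraicClosure k)}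
  (hFF : ∀ v, G₁.F (ext' v) = algebraMap k (AlgebraicClosure k) (G₀.F v))

theorem ext'_add (u v : Fin 4 → k) : ext' (u + v) = ext' u + ext' v := by ext i; simp [ext']

theorem ext'_smul (c : k) (v : Fin 4 → k) :
    ext' (c • v) = algebraMap k (AlgebraicClosure k) c • ext' v := by ext i; simp [ext']

theorem ext'_single (i : Fin 4) : ext' (Pi.single i (1 : k)) = Pi.single i 1 := by
  ext j; rcases eq_or_ne j i with rfl | h <;> simp [ext', *]

include hFF in
theorem T_ext' (u v w : Fin 4 → k) :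
    G₁.T (ext' u) (ext' v) (ext' w) = algebraMap k (AlgebraicClosure k) (G₀.T u v w) := by
  have h1 := G₁.polar₃ (ext' u) (ext' v) (ext' w)
  simp only [← ext'_add, hFF] at h1
  have h2 := congrArg (algebraMap k (AlgebraicClosure k)) (G₀.polar₃ u v w)
  simp only [map_add, map_sub, map_mul, map_ofNat] at h2
  rw [← h2] at h1
  exact mul_left_cancel₀ (by norm_num) h1

include hFF in
theorem facts_ext {a : Fin 4 → k} (hFa : G₀.F a = 0) (hsm : ∃ v, G₀.T a a v ≠ 0) (ha : a ≠ 0)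
    (hnT : ¬ Tpt G₁ (ext' a)) : ∃ x₁ x₂, TBasis G₀ a x₁ x₂ ∧ NoFactor G₀ a x₁ x₂ ∧
      ¬ (G₀.T a x₁ x₁ = 0 ∧ G₀.T a x₁ x₂ = 0 ∧ G₀.T a x₂ x₂ = 0) ∧
      TBasis G₁ (ext' a) (ext' x₁) (ext' x₂) ∧ NoFactor G₁ (ext' a) (ext' x₁) (ext' x₂) ∧
      ¬ (G₁.T (ext' a) (ext' x₁) (ext' x₁) = 0 ∧ G₁.T (ext' a) (ext' x₁) (ext' x₂) = 0 ∧
        G₁.T (ext' a) (ext' x₂) (ext' x₂) = 0) ∧ ext' a ≠ 0 ∧ G₁.F (ext' a) = 0 ∧
      ∃ v, G₁.T (ext' a) (ext' a) v ≠ 0 := by
  obtain ⟨x₁, x₂, hb⟩ := exists_TBasis hFa hsm ha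
  have hsm₁ : ∃ v, G₁.T (ext' a) (ext' a) v ≠ 0 := hsm.elim fun v hv =>
    ⟨ext' v, by rw [T_ext' hFF]; simpa using hv⟩
  have ha₁ : ext' a ≠ 0 := fun h => ha (funext fun i => by simpa [ext'] using congrFun h i)
  have hF₁ : G₁.F (ext' a) = 0 := by rw [hFF, hFa, map_zero]
  obtain ⟨y₁, y₂, hy⟩ := exists_TBasis hF₁ hsm₁ ha₁
  obtain ⟨e, he⟩ := hsm
  have hind₁ : ∀ α s t : AlgebraicClosure k, α • ext' a + s • ext' x₁ + t • ext' x₂ = 0 → α = 0 ∧ s = 0 ∧ t = 0 := by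
    intro α s t h
    obtain ⟨A, S, T, hc⟩ := tangent_coords hFa ⟨e, he⟩ x₁ x₂ hb.h₁ hb.h₂ hb.ind
    -- a linear functional over the algebraic closure extending one over `k`
    have hext : ∀ f : (Fin 4 → k) →ₗ[k] k,
        α * algebraMap k _ (f a) + s * algebraMap k _ (f x₁) + t * algebraMap k (AlgebraicClosure k) (f x₂) = 0 := by
      intro f
      have hf : ∀ v, algebraMap k (AlgebraicClosure k) (f v) =
          ∑ i, ext' v i * algebraMap k _ (f (Pi.single i 1)) := fun v => by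
        conv_lhs => rw [pi_eq_sum_univ' v]
        simp [ext']
      have := congrArg (fun z : Fin 4 → AlgebraicClosure k => ∑ i, z i * algebraMap k _ (f (Pi.single i 1))) h
      simp only [Pi.add_apply, Pi.smul_apply, smul_eq_mul, add_mul, Finset.sum_add_distrib, mul_assoc, ← Finset.mul_sum,
        ← hf, Pi.zero_apply, zero_mul, Finset.sum_const_zero] at this
      exact this
    have hFa' : G₀.T a a a = 0 := hFa
    obtain ⟨a1, a2, a3⟩ := hb.ind (A a - 1) (S a) (T a)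
      (by linear_combination (norm := module) -(hc a hFa'))
    obtain ⟨b1, b2, b3⟩ := hb.ind (A x₁) (S x₁ - 1) (T x₁)
      (by linear_combination (norm := module) -(hc x₁ hb.h₁))
    obtain ⟨d1, d2, d3⟩ := hb.ind (A x₂) (S x₂) (T x₂ - 1)
      (by linear_combination (norm := module) -(hc x₂ hb.h₂))
    rw [sub_eq_zero] at a1 b2 d3
    exact ⟨by simpa [a1, b1, d1] using hext A, by simpa [a2, b2, d2] using hext S, by simpa [a3, b3, d3] using hext T⟩
  have hb₁ : TBasis G₁ (ext' a) (ext' x₁) (ext' x₂) := by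
    refine ⟨hF₁, by rw [T_ext' hFF, hb.h₁, map_zero], by rw [T_ext' hFF, hb.h₂, map_zero], hind₁, fun v hv => ?_⟩
    obtain ⟨A, S, T, hc⟩ := tangent_coords hF₁ hsm₁ (ext' x₁) (ext' x₂)
      (by rw [T_ext' hFF, hb.h₁, map_zero]) (by rw [T_ext' hFF, hb.h₂, map_zero]) hind₁
    exact ⟨_, _, _, hc v hv⟩
  obtain ⟨hnf, hq⟩ := noFactor_of_not_Tpt hb₁ hsm₁ hnT
  refine ⟨x₁, x₂, hb, fun ⟨m₁, m₂, e0, e1, e2, e3⟩ => hnf ⟨algebraMap k _ m₁, algebraMap k _ m₂, ?_, ?_, ?_, ?_⟩,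
    fun ⟨h1, h2, h3⟩ => hq ⟨?_, ?_, ?_⟩, hb₁, hnf, hq, ha₁, hF₁, hsm₁⟩
  · have := congrArg (algebraMap k (AlgebraicClosure k)) e0
    simp only [map_mul, map_add, map_ofNat] at this
    rw [hFF, T_ext' hFF]; exact this
  · have := congrArg (algebraMap k (AlgebraicClosure k)) e1
    simp only [map_mul, map_add, map_ofNat] at this
    rw [T_ext' hFF, T_ext' hFF, T_ext' hFF]; exact this
  · have := congrArg (algebraMap k (AlgebraicClosure k)) e2
    simp only [map_mul, map_add, map_ofNat] at this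
    rw [T_ext' hFF, T_ext' hFF, T_ext' hFF]; exact this
  · have := congrArg (algebraMap k (AlgebraicClosure k)) e3
    simp only [map_mul, map_add, map_ofNat] at this
    rw [hFF, T_ext' hFF]; exact this
  · rw [T_ext' hFF, h1, map_zero]
  · rw [T_ext' hFF, h2, map_zero]
  · rw [T_ext' hFF, h3, map_zero]

include hFF in
theorem dense_smooth {a : Fin 4 → k} (hFa : G₀.F a = 0) (hsm : ∃ v, G₀.T a a v ≠ 0) (ha : a ≠ 0)
    (hnT : ¬ Tpt G₁ (ext' a)) (N : Finset ((Fin 4 → k) →ₗ[k] k)) (hN : ∀ g ∈ N, g ≠ 0) :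
    ∃ x, G₀.F x = 0 ∧ ∀ g ∈ N, g x ≠ 0 := by
  classical
  obtain ⟨x₁, x₂, hb, hnf, hq, hb₁, hnf₁, hq₁, ha₁, hF₁, hsm₁⟩ := facts_ext hFF hFa hsm ha hnT
  set γ := sectionCurve G₀ a x₁ x₂ with hγ
  set γ₁ := sectionCurve G₁ (ext' a) (ext' x₁) (ext' x₂) with hγ₁
  let ι := algebraMap k (AlgebraicClosure k)
  have hγγ : ∀ τ : k, γ₁ (ι τ) = ext' (γ τ) := fun τ => by
    ext i
    simp [hγ, hγ₁, sectionCurve, qf, cf, T_ext' hFF, hFF, ι, ext', map_ofNat, Algebra.smul_def]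
  -- special points
  have hspec : {τ : k | qf G₀ a x₁ x₂ τ ≠ 0 ∧ Special G₁ (ext' (γ τ))}.Finite := by
    have hfin := finite_Tpt hF₁ hsm₁ ha₁ hnT
    have h : {σ : AlgebraicClosure k | qf G₁ (ext' a) (ext' x₁) (ext' x₂) σ ≠ 0 ∧ Special G₁ (γ₁ σ)}.Finite := by
      refine (hfin.biUnion (t := fun U => {σ | γ₁ σ ∈ U}) fun U hU => ?_).subset fun σ ⟨hσ, hs⟩ => ?_
      · obtain ⟨hU1, hUb⟩ := hU
        obtain ⟨b, hbU, hb0⟩ := (Submodule.ne_bot_iff U).1 (fun h => by rw [h, finrank_bot] at hU1; omega)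
        obtain ⟨v, hv, hvU⟩ : ∃ v, G₁.T (ext' a) (ext' a) v = 0 ∧ v ∉ U := by
          by_contra! hc
          have h3 := Module.Dual.finrank_ker_add_one_of_ne_zero (f := G₁.T (ext' a) (ext' a))
            (fun h0 => hsm₁.elim fun v hv => hv (by rw [h0]; rfl))
          have hle := Submodule.finrank_mono (fun v hv => hc v hv : LinearMap.ker (G₁.T (ext' a) (ext' a)) ≤ U)
          rw [Module.finrank_fin_fun] at h3
          omega
        obtain ⟨g, hgv, hgU⟩ := Submodule.exists_dual_map_eq_bot_of_notMem hvU inferInstance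
        refine (finite_section_meet hb₁ hnf₁ hq₁ g ⟨v, hv, hgv⟩).subset fun σ hσ => ?_
        show g (γ₁ σ) = 0
        exact (Submodule.mem_bot _).1 (hgU ▸ Submodule.mem_map_of_mem hσ)
      · obtain ⟨hF, hT, hT'⟩ := section_facts hb₁ σ
        have h0 : γ₁ σ ≠ 0 := fun h0 => by
          rw [← hγ₁, h0] at hT'
          simp [hσ] at hT'
        refine Set.mem_biUnion (x := Submodule.span _ {γ₁ σ}) ⟨finrank_span_singleton h0, fun b hb hb0 => ?_⟩
          (Submodule.mem_span_singleton_self _)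
        obtain ⟨c, rfl⟩ := Submodule.mem_span_singleton.1 hb
        refine ⟨by rw [map_smul, show G₁.T (ext' a) (ext' a) (γ₁ σ) = 0 from hT, smul_zero],
          by rw [G₁.F_smul, show G₁.F (γ₁ σ) = 0 from hF, mul_zero], ?_⟩
        have hc : c ≠ 0 := left_ne_zero_of_smul hb0
        rcases hs with ⟨l₁, l₂, l₃, hl⟩ | hs
        · exact Or.inl ⟨l₁, l₂, l₃, fun w hw => hl w (by simpa [hc] using hw)⟩
        · exact Or.inr fun w => by simp [hs]
    refine (h.preimage (algebraMap k (AlgebraicClosure k)).injective.injOn).subset fun τ ⟨hτ, hs⟩ => ⟨?_, ?_⟩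
    · show qf G₁ (ext' a) (ext' x₁) (ext' x₂) (ι τ) ≠ 0
      have e : qf G₁ (ext' a) (ext' x₁) (ext' x₂) (ι τ) = ι (qf G₀ a x₁ x₂ τ) := by simp [qf, T_ext' hFF, ι, map_ofNat]
      rw [e]; simpa using hτ
    · show Special G₁ (γ₁ (ι τ))
      rw [hγγ]; exact hs
  -- avoid the planes different from the tangent plane
  let N' := N.filter fun g => ∃ v, G₀.T a a v = 0 ∧ g v ≠ 0
  have hbad : ({τ : k | qf G₀ a x₁ x₂ τ = 0} ∪ {τ : k | qf G₀ a x₁ x₂ τ ≠ 0 ∧ Special G₁ (ext' (γ τ))} ∪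
      ⋃ g ∈ (N' : Set ((Fin 4 → k) →ₗ[k] k)), {τ : k | g (γ τ) = 0}).Finite :=
    ((finite_qf_zero hq).union hspec).union (N'.finite_toSet.biUnion fun g hg =>
      finite_section_meet hb hnf hq g (Finset.mem_filter.1 hg).2)
  obtain ⟨τ, hτ⟩ := hbad.exists_notMem
  simp only [Set.mem_union, Set.mem_iUnion, Set.mem_setOf_eq, not_or, not_exists, not_and] at hτ
  obtain ⟨⟨hτq, hτs⟩, hτg⟩ := hτ
  obtain ⟨hFb, -, hTb⟩ := section_facts hb τ
  rw [← hγ] at hFb hTb
  set b := γ τ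
  have hsmb : G₀.T b b a ≠ 0 := by rw [hTb]; simp [hτq]
  have hb0 : b ≠ 0 := fun h => hsmb (by rw [h]; simp)
  obtain ⟨y₁, y₂, hy, hnfy, hqy, -⟩ := facts_ext hFF hFb ⟨a, hsmb⟩ hb0 fun h => hτs hτq (Or.inl h)
  have hmeet : ∀ g ∈ N, ∃ v, G₀.T b b v = 0 ∧ g v ≠ 0 := by
    intro g hg
    by_cases hgN : ∃ v, G₀.T a a v = 0 ∧ g v ≠ 0
    · exact ⟨b, hFb, hτg g (Finset.mem_filter.2 ⟨hg, hgN⟩)⟩
    · by_contra! hc
      push Not at hgN
      refine hN g hg (LinearMap.ext fun v => ?_)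
      have hFa' : G₀.T a a a = 0 := hFa
      have := hc (v - (G₀.T b b v / G₀.T b b a) • a) (by simp [hsmb])
      simpa [hgN a hFa'] using this
  have hbad' : ({σ : k | qf G₀ b y₁ y₂ σ = 0} ∪
      ⋃ g ∈ (N : Set ((Fin 4 → k) →ₗ[k] k)), {σ : k | g (sectionCurve G₀ b y₁ y₂ σ) = 0}).Finite :=
    (finite_qf_zero hqy).union (N.finite_toSet.biUnion fun g hg => finite_section_meet hy hnfy hqy g (hmeet g hg))
  obtain ⟨σ, hσ⟩ := hbad'.exists_notMem
  simp only [Set.mem_union, Set.mem_iUnion, Set.mem_setOf_eq, not_or, not_exists] at hσ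
  exact ⟨_, (section_facts hy σ).1, fun g hg => hσ.2 g hg⟩

end Extension

end Groth.Agent.Cubic27
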