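import Groth.Agent.Cubic27.TPoint
import Groth.Agent.S11855

/-!
# Lines on cubic surfaces without a line of singular points
-/

set_option autoImplicit false

universe u

open Module
open Groth.Agent.CubicLib

namespace Groth.Agent.Cubic27

variable {K : Type u} [Field K] [CharZero K] {G : Cubic K (Fin 4 → K)}

/-- A line of singular points. -/
def DoubleLine (G : Cubic K (Fin 4 → K)) (D : Submodule K (Fin 4 → K)) : Prop :=
  finrank K ↥D = 2 ∧ ∀ z ∈ D, ∀ v, G.T z z v = 0

theorem not_product {F : MvPolynomial (Fin 4) K} (hG : ∀ v, MvPolynomial.eval v F = G.F v) (hirr : Irreducible F)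
    (L : (Fin 4 → K) →ₗ[K] K) (B : (Fin 4 → K) →ₗ[K] (Fin 4 → K) →ₗ[K] K) :
    ¬ ∀ v, G.F v = L v * B v v := by
  intro h
  open MvPolynomial in
  let PL : MvPolynomial (Fin 4) K := ∑ i, C (L (Pi.single i 1)) * X i
  open MvPolynomial in
  let PB : MvPolynomial (Fin 4) K := ∑ i, ∑ j, C (B (Pi.single i 1) (Pi.single j 1)) * X i * X j
  have hF' : F = PL * PB := MvPolynomial.funext fun v => by
    rw [map_mul, hG, h]
    congr 1
    · conv_lhs => rw [pi_eq_sum_univ' v]
      simp [PL, mul_comm]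
    · conv_lhs => rw [pi_eq_sum_univ' v]
      simp [PB, Finset.mul_sum]
      rw [Finset.sum_comm]
      exact Finset.sum_congr rfl fun i _ => Finset.sum_congr rfl fun j _ => by ring
  rcases hirr.isUnit_or_isUnit hF' with hu | hu
  · simpa [PL] using hu.map (MvPolynomial.eval (0 : Fin 4 → K))
  · simpa [PB] using hu.map (MvPolynomial.eval (0 : Fin 4 → K))

theorem polar_ne_zero {F : MvPolynomial (Fin 4) K}
    (hG' : ∀ v i, MvPolynomial.eval v (MvPolynomial.pderiv i F) = 3 * G.T v v (Pi.single i 1))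
    (hcone : ¬ ∃ v : Fin 4 → K, v ≠ 0 ∧ ∑ i : Fin 4, v i • MvPolynomial.pderiv i F = 0)
    {a : Fin 4 → K} (ha : a ≠ 0) : G.T a ≠ 0 := fun h => hcone ⟨a, ha, MvPolynomial.funext fun v => by
  rw [sum_smul_pderiv_eval hG' a v, map_zero, G.symm₁₃, h]; simp⟩

variable [IsAlgClosed K]

theorem finite_lines_of_singular
    (hirr : ∀ (L : (Fin 4 → K) →ₗ[K] K) (B : (Fin 4 → K) →ₗ[K] (Fin 4 → K) →ₗ[K] K), ¬ ∀ v, G.F v = L v * B v v)
    (hdl : ∀ D, ¬ DoubleLine G D) {a : Fin 4 → K} (ha0 : a ≠ 0) (ha : ∀ w, G.T a a w = 0) (hcone : G.T a ≠ 0) :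
    {U : Submodule K (Fin 4 → K) | finrank K ↥U = 2 ∧ ∀ u ∈ U, G.F u = 0}.Finite := by
  classical
  set A := {U : Submodule K (Fin 4 → K) | a ∈ U ∧ finrank K ↥U = 2 ∧ ∀ u ∈ U, G.F u = 0} with hA
  have hAfin : A.Finite := Set.finite_of_encard_le_coe (k := 6) (lines_singular hirr ha0 ha hcone)
  let H : Submodule K (Fin 4 → K) → Submodule K (Fin 4 → K) := fun Λ =>
    ⨅ z ∈ Λ, LinearMap.ker (G.T a z) ⊓ LinearMap.ker (G.T z z)
  set planes := Set.image2 (· ⊔ ·) A A ∪ H '' A with hplanes
  let N : Submodule K (Fin 4 → K) → Set (Submodule K (Fin 4 → K)) := fun P =>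
    {U | U ≤ P ∧ finrank K ↥U = 2 ∧ a ∉ U ∧ (∀ u ∈ U, G.F u = 0) ∧ P = Submodule.span K {a} ⊔ U}
  -- the plane of a line not through the singular point contains no zero-free quadratic form
  have hnot : ∀ U : Submodule K (Fin 4 → K), finrank K ↥U = 2 → a ∉ U → (∀ u ∈ U, G.F u = 0) →
      ∃ u ∈ U, G.T a u u ≠ 0 := by
    intro U hU haU hUF
    by_contra! h
    have hP : finrank K ↥(Submodule.span K {a} ⊔ U) = 3 := by
      have e := Submodule.finrank_sup_add_finrank_inf_eq (Submodule.span K {a}) U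
      rw [(Submodule.disjoint_span_singleton' ha0).2 haU |>.symm.eq_bot, finrank_bot, finrank_span_singleton ha0, hU] at e
      omega
    obtain ⟨u, hu, hFu⟩ := no_hyperplane hirr _ hP
    obtain ⟨p, hp, w, hw, rfl⟩ := Submodule.mem_sup.1 hu
    obtain ⟨c, rfl⟩ := Submodule.mem_span_singleton.1 hp
    exact hFu (by rw [F_adapted G ha, h w hw, hUF w hw]; ring)
  have hone : ∀ P, (N P).Subsingleton := by
    rintro P U ⟨-, hU, haU, hUF, hP⟩ U' ⟨hle', hU', haU', hUF', -⟩
    symm
    refine Submodule.eq_of_le_of_finrank_eq (fun v hv => ?_) (by rw [hU, hU'])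
    by_contra hvU
    -- `v = c a + u` with `c ≠ 0`
    obtain ⟨p, hp, u, hu, rfl⟩ := Submodule.mem_sup.1 (hP ▸ hle' hv)
    obtain ⟨c, rfl⟩ := Submodule.mem_span_singleton.1 hp
    obtain ⟨u₁, hu₁, hQ⟩ := hnot U hU haU hUF
    have hc : c ≠ 0 := fun h => hvU (by rw [h, zero_smul, zero_add]; exact hu)
    -- the projection of `U'` onto `U`
    have hproj : ∀ w ∈ U', ∃ d : K, ∃ x ∈ U, w = d • a + x ∧ d * G.T a x x = 0 := fun w hw => by
      obtain ⟨p, hp, x, hx, rfl⟩ := Submodule.mem_sup.1 (hP ▸ hle' hw)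
      obtain ⟨d, rfl⟩ := Submodule.mem_span_singleton.1 hp
      refine ⟨d, x, hx, rfl, ?_⟩
      have := hUF' _ hw
      rw [F_adapted G ha, hUF x hx, add_zero] at this
      simpa [mul_assoc] using this
    -- surjectivity of the projection
    obtain ⟨d₁, hd₁⟩ : ∃ d₁ : K, d₁ • a + u₁ ∈ U' := by
      have hle : Submodule.span K {a} ⊔ U ≤ Submodule.span K {a} ⊔ U' := by
        refine (Submodule.eq_of_le_of_finrank_le (sup_le le_sup_left (hle'.trans hP.le)) ?_).ge
        have e := Submodule.finrank_sup_add_finrank_inf_eq (Submodule.span K {a}) U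
        have e' := Submodule.finrank_sup_add_finrank_inf_eq (Submodule.span K {a}) U'
        rw [(Submodule.disjoint_span_singleton' ha0).2 haU |>.symm.eq_bot, finrank_bot, finrank_span_singleton ha0, hU] at e
        rw [(Submodule.disjoint_span_singleton' ha0).2 haU' |>.symm.eq_bot, finrank_bot, finrank_span_singleton ha0, hU'] at e'
        omega
      obtain ⟨p, hp, w, hw, he⟩ := Submodule.mem_sup.1 (hle (Submodule.mem_sup_right hu₁))
      obtain ⟨d, rfl⟩ := Submodule.mem_span_singleton.1 hp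
      exact ⟨-d, by rwa [← he, neg_smul, neg_add_cancel_left]⟩
    have hQ' : ∀ (d : K) (x : Fin 4 → K), d • a + x ∈ U' → x ∈ U → d * G.T a x x = 0 := fun d x hw hx => by
      obtain ⟨d', x', hx', he, h0⟩ := hproj _ hw
      have hd : d = d' := by
        by_contra hne
        refine haU ((Submodule.smul_mem_iff U (sub_ne_zero.2 hne)).1 ?_)
        rw [show (d - d') • a = x' - x by linear_combination (norm := module) he]
        exact sub_mem hx' hx
      subst hd
      rwa [add_left_cancel he]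
    have hd1 : d₁ = 0 := (mul_eq_zero.1 (hQ' d₁ u₁ hd₁ hu₁)).resolve_right hQ
    rw [hd1, zero_smul, zero_add] at hd₁
    have hall : ∀ t : K, c * G.T a (u + t • u₁) (u + t • u₁) = 0 := fun t => hQ' c _ (by
      rw [← add_assoc]; exact add_mem hv (U'.smul_mem t hd₁)) (add_mem hu (U.smul_mem t hu₁))
    have hz : ∀ t : K, G.T a (u + t • u₁) (u + t • u₁) = 0 := fun t => (mul_eq_zero.1 (hall t)).resolve_left hc
    have h0 := hz 0
    have h1 := hz 1
    have h2 := hz (-1)
    simp [G.symm₂₃ a u₁ u] at h0 h1 h2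
    exact hQ (by linear_combination (h1 + h2) / 2 - h0)
  refine (hAfin.union (((hAfin.image2 (· ⊔ ·) hAfin).union (hAfin.image H)).biUnion fun P _ => (hone P).finite)).subset ?_
  rintro U ⟨hU, hUF⟩
  by_cases haU : a ∈ U
  · exact Or.inl ⟨haU, hU, hUF⟩
  right
  refine Set.mem_biUnion (x := Submodule.span K {a} ⊔ U) ?_ ⟨le_sup_right, hU, haU, hUF, rfl⟩
  have hP : finrank K ↥(Submodule.span K {a} ⊔ U) = 3 := by
    have e := Submodule.finrank_sup_add_finrank_inf_eq (Submodule.span K {a}) U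
    rw [(Submodule.disjoint_span_singleton' ha0).2 haU |>.symm.eq_bot, finrank_bot, finrank_span_singleton ha0, hU] at e
    omega
  have hlineA : ∀ x ∈ U, x ≠ 0 → G.T a x x = 0 → line a x ∈ A := fun x hx hx0 hQ => by
    have hli : LinearIndependent K ![a, x] := (LinearIndependent.pair_iff' ha0).2 fun t ht => by
      rcases eq_or_ne t 0 with rfl | ht0
      · exact hx0 (by simpa using ht.symm)
      · exact haU ((U.smul_mem_iff ht0).1 (ht ▸ hx))
    refine ⟨Submodule.subset_span (by simp), ?_, fun v hv => ?_⟩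
    · show finrank K ↥(Submodule.span K ({a, x} : Set (Fin 4 → K))) = 2
      rw [← Matrix.range_cons_cons_empty a x ![], finrank_span_eq_card hli, Fintype.card_fin]
    · obtain ⟨p, q, rfl⟩ := Submodule.mem_span_pair.1 hv
      rw [F_adapted G ha, G.F_smul, hUF x hx]
      simp [hQ]
  obtain ⟨b, hb⟩ := exists_linearIndependent_of_le_finrank (R := K) (M := ↥U) (n := 2) hU.ge
  obtain ⟨s, t, hst, hiso⟩ := exists_isotropic_pair G a (b 0 : Fin 4 → K) (b 1 : Fin 4 → K)
  set x : Fin 4 → K := s • (b 0 : Fin 4 → K) + t • (b 1 : Fin 4 → K)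
  have hxU : x ∈ U := add_mem (U.smul_mem _ (b 0).2) (U.smul_mem _ (b 1).2)
  have hx0 : x ≠ 0 := fun h => by
    obtain ⟨h0, h1⟩ := LinearIndependent.pair_iff.1 (show LinearIndependent K ![b 0, b 1] by
      convert hb using 1; funext i; fin_cases i <;> rfl) s t (Subtype.ext h)
    rcases hst with h' | h' <;> contradiction
  have hΛ := hlineA x hxU hx0 hiso
  have haΛ : a ∈ line a x := Submodule.subset_span (by simp)
  have hxΛ : x ∈ line a x := Submodule.subset_span (by simp)
  by_cases hsec : ∃ y ∈ U, G.T a y y = 0 ∧ y ∉ Submodule.span K {x}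
  · obtain ⟨y, hy, hQy, hyx⟩ := hsec
    have hy0 : y ≠ 0 := fun h => hyx (h ▸ zero_mem _)
    refine Or.inl ⟨_, hΛ, _, hlineA y hy hy0 hQy, ?_⟩
    have hspan : U = Submodule.span K {x, y} := by
      refine (Submodule.eq_of_le_of_finrank_eq (Submodule.span_le.2 ?_) ?_).symm
      · rintro z (rfl | rfl) <;> assumption
      · have hli : LinearIndependent K ![x, y] :=
          (LinearIndependent.pair_iff' hx0).2 fun t ht => hyx (Submodule.mem_span_singleton.2 ⟨t, ht⟩)
        rw [hU, ← Matrix.range_cons_cons_empty x y ![], finrank_span_eq_card hli, Fintype.card_fin]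
    show Submodule.span K ({a, x} : Set (Fin 4 → K)) ⊔ Submodule.span K {a, y} = _
    rw [hspan, ← Submodule.span_union, ← Submodule.span_union]
    congr 1
    ext z; simp; tauto
  · push Not at hsec
    refine Or.inr ⟨_, hΛ, ?_⟩
    have hTU : ∀ y ∈ U, G.T a x y = 0 := fun y hy => by
      by_cases hyx : y ∈ Submodule.span K {x}
      · obtain ⟨d, rfl⟩ := Submodule.mem_span_singleton.1 hyx
        simp [hiso]
      · have hQy : G.T a y y ≠ 0 := fun h => hyx (hsec y hy h)
        by_contra hne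
        set r := -2 * G.T a x y / G.T a y y with hr
        have hr0 : r ≠ 0 := by simp [hr, hne, hQy]
        have hmem : x + r • y ∈ Submodule.span K {x} := hsec _ (add_mem hxU (U.smul_mem r hy)) (by
          simp only [map_add, map_smul, LinearMap.add_apply, LinearMap.smul_apply, smul_eq_mul, hiso, G.symm₂₃ a y x]
          rw [hr]; field_simp; ring)
        exact hyx ((Submodule.smul_mem_iff _ hr0).1
          ((Submodule.add_mem_iff_right _ (Submodule.mem_span_singleton_self x)).1 hmem))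
    have hTx : ∀ y ∈ U, G.T x x y = 0 := fun y hy => G.T_eq_zero_of_F hUF hxU hxU hy
    have hle : Submodule.span K {a} ⊔ U ≤ H (line a x) := by
      refine sup_le ((Submodule.span_singleton_le_iff_mem _ _).2 ?_) fun y hy => ?_
      · simp only [H, Submodule.mem_iInf, Submodule.mem_inf, LinearMap.mem_ker]
        intro z hz
        obtain ⟨p, q, rfl⟩ := Submodule.mem_span_pair.1 hz
        have e1 : G.T a x a = 0 := by rw [G.symm₂₃]; exact ha x
        have e2 : G.T x x a = 0 := by rw [G.symm₁₃]; exact hiso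
        constructor <;> simp [G.symm₁₂ x a, e1, e2, ha]
      · simp only [H, Submodule.mem_iInf, Submodule.mem_inf, LinearMap.mem_ker]
        intro z hz
        obtain ⟨p, q, rfl⟩ := Submodule.mem_span_pair.1 hz
        constructor <;> simp [G.symm₁₂ x a, hTU y hy, hTx y hy, ha]
    refine (Submodule.eq_of_le_of_finrank_le hle ?_).symm
    rw [hP]
    by_contra! h4
    have htop : H (line a x) = ⊤ := Submodule.eq_top_of_finrank_eq (by
      have := Submodule.finrank_le (H (line a x))
      rw [Module.finrank_fin_fun] at this ⊢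
      omega)
    refine hdl (line a x) ⟨hΛ.2.1, fun z hz v => ?_⟩
    have hv : v ∈ H (line a x) := htop ▸ Submodule.mem_top
    simp only [H, Submodule.mem_iInf, Submodule.mem_inf, LinearMap.mem_ker] at hv
    exact (hv z hz).2

theorem singular_mem_doubleLine
    (hirr : ∀ (L : (Fin 4 → K) →ₗ[K] K) (B : (Fin 4 → K) →ₗ[K] (Fin 4 → K) →ₗ[K] K), ¬ ∀ v, G.F v = L v * B v v)
    {D : Submodule K (Fin 4 → K)} (hD : DoubleLine G D) {v : Fin 4 → K} (hv : ∀ w, G.T v v w = 0) : v ∈ D := by
  by_contra hvD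
  have hv0 : v ≠ 0 := fun h => hvD (h ▸ zero_mem _)
  have hP : finrank K ↥(Submodule.span K {v} ⊔ D) = 3 := by
    have e := Submodule.finrank_sup_add_finrank_inf_eq (Submodule.span K {v}) D
    rw [(Submodule.disjoint_span_singleton' hv0).2 hvD |>.symm.eq_bot, finrank_bot, finrank_span_singleton hv0, hD.1] at e
    omega
  obtain ⟨u, hu, hFu⟩ := no_hyperplane hirr _ hP
  obtain ⟨p, hp, z, hz, rfl⟩ := Submodule.mem_sup.1 hu
  obtain ⟨c, rfl⟩ := Submodule.mem_span_singleton.1 hp
  refine hFu ?_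
  rw [F_adapted G hv]
  have h1 : G.T v z z = 0 := by rw [G.symm₁₃]; exact hD.2 z hz v
  rw [h1, show G.F z = 0 from hD.2 z hz z]; ring

theorem finite_lines {F : MvPolynomial (Fin 4) K} (hF : F.IsHomogeneous 3) (hG : ∀ v, MvPolynomial.eval v F = G.F v)
    (hG' : ∀ v i, MvPolynomial.eval v (MvPolynomial.pderiv i F) = 3 * G.T v v (Pi.single i 1)) (hirr : Irreducible F)
    (hcone : ¬ ∃ v : Fin 4 → K, v ≠ 0 ∧ ∑ i : Fin 4, v i • MvPolynomial.pderiv i F = 0)
    (hdl : ∀ D, ¬ DoubleLine G D) :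
    {U : Submodule K (Fin 4 → K) | finrank K ↥U = 2 ∧ ∀ u ∈ U, G.F u = 0}.Finite := by
  by_cases hs : ∃ a : Fin 4 → K, a ≠ 0 ∧ ∀ w, G.T a a w = 0
  · obtain ⟨a, ha0, ha⟩ := hs
    exact finite_lines_of_singular (not_product hG hirr) hdl ha0 ha (polar_ne_zero hG' hcone ha0)
  · push Not at hs
    refine (Groth.Agent.S11855.result K 3 le_rfl F hF hirr.ne_zero fun v hv _ => ?_).subset
      fun U hU => ⟨hU.1, fun u hu => (hG u).trans (hU.2 u hu)⟩
    obtain ⟨w, hw⟩ := hs v hv
    by_contra! h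
    refine hw ?_
    rw [pi_eq_sum_univ' w, map_sum]
    refine Finset.sum_eq_zero fun i _ => ?_
    have h' := h i
    rw [hG', mul_eq_zero] at h'
    rw [map_smul, h'.resolve_left (by norm_num), smul_zero]

end Groth.Agent.Cubic27
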