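import Groth.Agent.CubicLib.SingularLines
import Groth.Agent.CubicLib.Hesse
import Mathlib.Tactic

/-!
# `T`-points of cubic surfaces
-/

set_option autoImplicit false

universe u

open Module
open Groth.Agent.CubicLib

namespace Groth.Agent.Cubic27

variable {K : Type u} [Field K] [CharZero K] {G : Cubic K (Fin 4 → K)}

/-- The tangent section at `b` is a union of lines. -/
def Tpt (G : Cubic K (Fin 4 → K)) (b : Fin 4 → K) : Prop :=
  ∃ l₁ l₂ l₃ : (Fin 4 → K) →ₗ[K] K, ∀ v, G.T b b v = 0 → G.F v = l₁ v * l₂ v * l₃ v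

theorem tangent_coords {a : Fin 4 → K} (hFa : G.F a = 0) (hsm : ∃ v, G.T a a v ≠ 0) (y₁ y₂ : Fin 4 → K)
    (hy1 : G.T a a y₁ = 0) (hy2 : G.T a a y₂ = 0)
    (hind : ∀ α s t : K, α • a + s • y₁ + t • y₂ = 0 → α = 0 ∧ s = 0 ∧ t = 0) :
    ∃ A S T : (Fin 4 → K) →ₗ[K] K, ∀ v, G.T a a v = 0 → v = A v • a + S v • y₁ + T v • y₂ := by
  obtain ⟨e, he⟩ := hsm
  set H := LinearMap.ker (G.T a a) with hH
  have hHr : finrank K ↥H = 3 := by
    have h := Module.Dual.finrank_ker_add_one_of_ne_zero (f := G.T a a) (fun h0 => he (by rw [h0]; rfl))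
    rw [Module.finrank_fin_fun] at h
    show finrank K ↥(LinearMap.ker (G.T a a)) = 3
    omega
  let m : (Fin 3 → K) →ₗ[K] (Fin 4 → K) := Fintype.linearCombination K ![a, y₁, y₂]
  have hm : ∀ d, m d = d 0 • a + d 1 • y₁ + d 2 • y₂ := fun d => by
    simp [m, Fintype.linearCombination_apply, Fin.sum_univ_three]
  have hinj : LinearMap.ker m = ⊥ := LinearMap.ker_eq_bot'.2 fun d hd => by
    rw [hm] at hd
    obtain ⟨h0, h1, h2⟩ := hind _ _ _ hd
    ext i; fin_cases i <;> assumption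
  obtain ⟨r, hr⟩ := m.exists_leftInverse_of_injective hinj
  refine ⟨(LinearMap.proj 0).comp r, (LinearMap.proj 1).comp r, (LinearMap.proj 2).comp r, fun v hv => ?_⟩
  have hrange : LinearMap.range m = H := by
    refine Submodule.eq_of_le_of_finrank_eq ?_ ?_
    · rintro _ ⟨d, rfl⟩
      have hFa' : G.T a a a = 0 := hFa
      simp [hH, hm, hy1, hy2, hFa']
    · rw [LinearMap.finrank_range_of_inj (LinearMap.ker_eq_bot.1 hinj), Module.finrank_fin_fun, hHr]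
  obtain ⟨d, rfl⟩ : v ∈ LinearMap.range m := hrange.symm ▸ hv
  have := LinearMap.congr_fun hr d
  simp only [LinearMap.comp_apply, LinearMap.id_apply] at this
  simp only [LinearMap.comp_apply, LinearMap.proj_apply, this]
  exact hm d

theorem F_tangent {a y₁ y₂ : Fin 4 → K} (hFa : G.F a = 0) (hy1 : G.T a a y₁ = 0) (hy2 : G.T a a y₂ = 0)
    (α s t : K) :
    G.F (α • a + s • y₁ + t • y₂) = 3 * α * (s ^ 2 * G.T a y₁ y₁ + 2 * s * t * G.T a y₁ y₂ + t ^ 2 * G.T a y₂ y₂) +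
      (s ^ 3 * G.F y₁ + 3 * s ^ 2 * t * G.T y₁ y₁ y₂ + 3 * s * t ^ 2 * G.T y₁ y₂ y₂ + t ^ 3 * G.F y₂) := by
  rw [G.F_comb₃, hFa, hy1, hy2]; ring

theorem quad_ne_zero [IsAlgClosed K] {a : Fin 4 → K} (hFa : G.F a = 0) (hsm : ∃ v, G.T a a v ≠ 0)
    (hnT : ¬ Tpt G a) (x₁ x₂ : Fin 4 → K) (hx1 : G.T a a x₁ = 0) (hx2 : G.T a a x₂ = 0)
    (hli : ∀ α s t : K, α • a + s • x₁ + t • x₂ = 0 → α = 0 ∧ s = 0 ∧ t = 0) :
    ¬ (G.T a x₁ x₁ = 0 ∧ G.T a x₁ x₂ = 0 ∧ G.T a x₂ x₂ = 0) := by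
  rintro ⟨h11, h12, h22⟩
  obtain ⟨A, S, T, hc⟩ := tangent_coords hFa hsm x₁ x₂ hx1 hx2 hli
  -- factor the binary cubic
  rcases eq_or_ne (G.F x₁) 0 with h1 | h1
  · rcases eq_or_ne (G.T x₁ x₁ x₂) 0 with h112 | h112
    · refine hnT ⟨T, T, (3 * G.T x₁ x₂ x₂) • S + G.F x₂ • T, fun v hv => ?_⟩
      conv_lhs => rw [hc v hv, F_tangent hFa hx1 hx2, h11, h12, h22, h1, h112]
      simp; ring
    · obtain ⟨r, hr⟩ := Cubic.exists_root_quadratic (3 * G.T x₁ x₁ x₂) (3 * G.T x₁ x₂ x₂) (G.F x₂) (by simp [h112])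
      refine hnT ⟨T, S - r • T, (3 * G.T x₁ x₁ x₂) • S + (3 * G.T x₁ x₂ x₂ + 3 * G.T x₁ x₁ x₂ * r) • T, fun v hv => ?_⟩
      conv_lhs => rw [hc v hv, F_tangent hFa hx1 hx2, h11, h12, h22, h1]
      simp
      linear_combination (T v) ^ 3 * hr
  · obtain ⟨c, hc0⟩ := IsAlgClosed.exists_root
      (Polynomial.C (G.F x₁) * Polynomial.X ^ 3 + Polynomial.C (3 * G.T x₁ x₁ x₂) * Polynomial.X ^ 2 +
        Polynomial.C (3 * G.T x₁ x₂ x₂) * Polynomial.X + Polynomial.C (G.F x₂))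
      (by rw [Polynomial.degree_cubic h1]; decide)
    simp [Polynomial.IsRoot] at hc0
    -- divide by `S - c T`
    obtain ⟨r, hr⟩ := Cubic.exists_root_quadratic (G.F x₁) (3 * G.T x₁ x₁ x₂ + c * G.F x₁)
      (3 * G.T x₁ x₂ x₂ + c * (3 * G.T x₁ x₁ x₂ + c * G.F x₁)) h1
    refine hnT ⟨S - c • T, S - r • T, G.F x₁ • S + (3 * G.T x₁ x₁ x₂ + c * G.F x₁ + G.F x₁ * r) • T, fun v hv => ?_⟩
    conv_lhs => rw [hc v hv, F_tangent hFa hx1 hx2, h11, h12, h22]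
    simp
    linear_combination (S v * T v ^ 2 - c * T v ^ 3) * hr + (T v) ^ 3 * hc0

theorem normal_form [IsAlgClosed K] {a : Fin 4 → K} (hFa : G.F a = 0) (hsm : ∃ v, G.T a a v ≠ 0)
    (hnT : ¬ Tpt G a) : ∀ y₁ y₂ : Fin 4 → K, G.T a a y₁ = 0 → G.T a a y₂ = 0 →
      (∀ α s t : K, α • a + s • y₁ + t • y₂ = 0 → α = 0 ∧ s = 0 ∧ t = 0) →
      (∀ v, G.T a a v = 0 → ∃ α s t : K, v = α • a + s • y₁ + t • y₂) → G.T a y₁ y₁ = 0 →
      (G.T a y₁ y₂ ≠ 0 ∨ G.T a y₂ y₂ ≠ 0) →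
      ∃ h₁ h₂ : Fin 4 → K, G.T a a h₁ = 0 ∧ G.T a a h₂ = 0 ∧
      (∀ v, G.T a a v = 0 → ∃ α s t : K, v = α • a + s • h₁ + t • h₂) ∧
      LinearIndependent K ![a, h₁, h₂] ∧ G.T a h₁ h₁ = 0 ∧
      ((G.T a h₁ h₂ ≠ 0 ∧ G.T a h₂ h₂ = 0 ∧ G.F h₁ ≠ 0) ∨
        (G.T a h₁ h₂ = 0 ∧ G.T a h₂ h₂ ≠ 0 ∧ (G.F h₁ ≠ 0 ∨ G.T h₁ h₁ h₂ ≠ 0))) := by
  intro y₁ y₂ hy1 hy2 hind hs h11 hne
  have li : ∀ z₁ z₂ : Fin 4 → K, (∀ α s t : K, α • a + s • z₁ + t • z₂ = 0 → α = 0 ∧ s = 0 ∧ t = 0) →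
      LinearIndependent K ![a, z₁, z₂] := fun z₁ z₂ hz => Fintype.linearIndependent_iff.2 fun d hd => by
    obtain ⟨a0, a1, a2⟩ := hz (d 0) (d 1) (d 2) (by simpa [Fin.sum_univ_three] using hd)
    intro i; fin_cases i <;> assumption
  obtain ⟨A, S, T, hc⟩ := tangent_coords hFa hsm y₁ y₂ hy1 hy2 hind
  by_cases hB : G.T a y₁ y₂ = 0
  · refine ⟨y₁, y₂, hy1, hy2, hs, li _ _ hind, h11, Or.inr ⟨hB, hne.resolve_left (not_not_intro hB), ?_⟩⟩
    by_contra! h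
    refine hnT ⟨T, T, (3 * G.T a y₂ y₂) • A + (3 * G.T y₁ y₂ y₂) • S + G.F y₂ • T, fun v hv => ?_⟩
    conv_lhs => rw [hc v hv, F_tangent hFa hy1 hy2, h11, hB, h.1, h.2]
    simp; ring
  · set k := G.T a y₂ y₂ / (2 * G.T a y₁ y₂) with hk
    have hk' : 2 * G.T a y₁ y₂ * k = G.T a y₂ y₂ := by rw [hk]; field_simp
    set z := y₂ - k • y₁ with hz
    have hza : G.T a a z = 0 := by simp [hz, hy1, hy2]
    have hzz : G.T a z z = 0 := by
      simp [hz, h11, G.symm₂₃ a y₂ y₁]; linear_combination -hk'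
    have hyz : G.T a y₁ z = G.T a y₁ y₂ := by simp [hz, h11]
    have hind' : ∀ α s t : K, α • a + s • y₁ + t • z = 0 → α = 0 ∧ s = 0 ∧ t = 0 := fun α s t h0 => by
      obtain ⟨a0, a1, a2⟩ := hind α (s - t * k) t (by rw [← h0, hz]; module)
      subst a2; exact ⟨a0, by simpa using a1, rfl⟩
    have hs' : ∀ v, G.T a a v = 0 → ∃ α s t : K, v = α • a + s • y₁ + t • z := fun v hv => by
      obtain ⟨α, s, t, rfl⟩ := hs v hv
      exact ⟨α, s + t * k, t, by rw [hz]; module⟩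
    by_cases h1 : G.F y₁ = 0
    · by_cases h2 : G.F z = 0
      · obtain ⟨A', S', T', hc'⟩ := tangent_coords hFa hsm y₁ z hy1 hza hind'
        refine absurd ⟨S', T', (6 * G.T a y₁ y₂) • A' + (3 * G.T y₁ y₁ z) • S' + (3 * G.T y₁ z z) • T',
          fun v hv => ?_⟩ hnT
        conv_lhs => rw [hc' v hv, F_tangent hFa hy1 hza, h11, hzz, hyz, h1, h2]
        simp; ring
      · exact ⟨z, y₁, hza, hy1, fun v hv => (hs' v hv).elim fun α ⟨s, t, e⟩ => ⟨α, t, s, by rw [e]; abel⟩,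
          li _ _ fun α s t h0 => by
            obtain ⟨a0, a1, a2⟩ := hind' α t s (by rw [← h0]; abel)
            exact ⟨a0, a2, a1⟩,
          hzz, Or.inl ⟨by rw [G.symm₂₃, hyz]; exact hB, h11, h2⟩⟩
    · exact ⟨y₁, z, hy1, hza, hs', li _ _ hind', h11, Or.inl ⟨by rwa [hyz], hzz, h1⟩⟩

set_option maxHeartbeats 400000 in
theorem not_Tpt_data [IsAlgClosed K] {a : Fin 4 → K} (hFa : G.F a = 0) (hsm : ∃ v, G.T a a v ≠ 0) (ha0 : a ≠ 0)
    (hnT : ¬ Tpt G a) :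
    ∃ h₁ h₂ : Fin 4 → K, G.T a a h₁ = 0 ∧ G.T a a h₂ = 0 ∧
      (∀ v, G.T a a v = 0 → ∃ α s t : K, v = α • a + s • h₁ + t • h₂) ∧
      LinearIndependent K ![a, h₁, h₂] ∧ G.T a h₁ h₁ = 0 ∧
      ((G.T a h₁ h₂ ≠ 0 ∧ G.T a h₂ h₂ = 0 ∧ G.F h₁ ≠ 0) ∨
        (G.T a h₁ h₂ = 0 ∧ G.T a h₂ h₂ ≠ 0 ∧ (G.F h₁ ≠ 0 ∨ G.T h₁ h₁ h₂ ≠ 0))) := by
  have hsm' := hsm
  obtain ⟨e, he⟩ := hsm
  have hFa' : G.T a a a = 0 := hFa
  have hae : LinearIndependent K ![a, e] := LinearIndependent.pair_iff.2 fun p q hpq => by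
    have h := congrArg (G.T a a) hpq
    simp [hFa', he] at h
    rw [h, zero_smul, add_zero] at hpq
    exact ⟨(smul_eq_zero.1 hpq).resolve_right ha0, h⟩
  obtain ⟨w₁, hw₁⟩ := exists_linearIndependent_snoc_of_lt_finrank hae (by rw [Module.finrank_fin_fun]; norm_num)
  obtain ⟨w₂, hw₂⟩ := exists_linearIndependent_snoc_of_lt_finrank hw₁ (by rw [Module.finrank_fin_fun]; norm_num)
  have htop : Submodule.span K (Set.range (Fin.snoc (Fin.snoc ![a, e] w₁) w₂)) = ⊤ :=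
    Submodule.eq_top_of_finrank_eq (by rw [finrank_span_eq_card hw₂, Module.finrank_fin_fun, Fintype.card_fin])
  set x₁ : Fin 4 → K := w₁ - (G.T a a w₁ / G.T a a e) • e with hx₁
  set x₂ : Fin 4 → K := w₂ - (G.T a a w₂ / G.T a a e) • e with hx₂
  have hx1 : G.T a a x₁ = 0 := by simp [hx₁, he]
  have hx2 : G.T a a x₂ = 0 := by simp [hx₂, he]
  have hli : ∀ α s t : K, α • a + s • x₁ + t • x₂ = 0 → α = 0 ∧ s = 0 ∧ t = 0 := fun α s t h0 => by
    have h := Fintype.linearIndependent_iff.1 hw₂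
      ![α, -(s * (G.T a a w₁ / G.T a a e) + t * (G.T a a w₂ / G.T a a e)), s, t] (by
      simp [Fin.sum_univ_four, Fin.snoc]
      rw [← h0, hx₁, hx₂]; module)
    exact ⟨h 0, h 2, h 3⟩
  have hsp : ∀ v, G.T a a v = 0 → ∃ α s t : K, v = α • a + s • x₁ + t • x₂ := fun v hv => by
    obtain ⟨d, hd⟩ := (Submodule.mem_span_range_iff_exists_fun K).1 (htop ▸ Submodule.mem_top :
      v ∈ Submodule.span K (Set.range (Fin.snoc (Fin.snoc ![a, e] w₁) w₂)))
    simp [Fin.sum_univ_four, Fin.snoc] at hd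
    refine ⟨d 0, d 2, d 3, ?_⟩
    have h := hv
    rw [← hd] at h
    simp [hFa'] at h
    have hd1 : d 1 = -(d 2 * (G.T a a w₁ / G.T a a e) + d 3 * (G.T a a w₂ / G.T a a e)) := by
      field_simp; linear_combination h
    rw [← hd, hd1, hx₁, hx₂]; module
  have hnz := quad_ne_zero hFa hsm' hnT x₁ x₂ hx1 hx2 hli
  have main := normal_form hFa hsm' hnT
  obtain ⟨s, t, hst, hiso⟩ := exists_isotropic_pair G a x₁ x₂
  have hy1 : G.T a a (s • x₁ + t • x₂) = 0 := by simp [hx1, hx2]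
  rcases eq_or_ne s 0 with rfl | hs0
  · have ht : t ≠ 0 := by simpa using hst
    have h22 : G.T a x₂ x₂ = 0 := by simpa [ht] using hiso
    refine main x₂ x₁ hx2 hx1 (fun α s t h0 => ?_) (fun v hv => ?_) h22 ?_
    · obtain ⟨a0, a1, a2⟩ := hli α t s (by rw [← h0]; abel)
      exact ⟨a0, a2, a1⟩
    · obtain ⟨α, s, t, e⟩ := hsp v hv
      exact ⟨α, t, s, by rw [e]; abel⟩
    · rw [G.symm₂₃ a x₂ x₁]
      by_contra! h
      exact hnz ⟨h.2, h.1, h22⟩
  · refine main (s • x₁ + t • x₂) x₂ hy1 hx2 (fun α u r h0 => ?_) (fun v hv => ?_) hiso ?_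
    · obtain ⟨a0, a1, a2⟩ := hli α (u * s) (u * t + r) (by rw [← h0]; module)
      have hu : u = 0 := (mul_eq_zero.1 a1).resolve_right hs0
      subst hu
      exact ⟨a0, rfl, by simpa using a2⟩
    · obtain ⟨α, u, r, e⟩ := hsp v hv
      refine ⟨α, u / s, r - u / s * t, ?_⟩
      rw [e]
      simp only [smul_add, smul_smul, div_mul_cancel₀ _ hs0]
      module
    · by_contra! h
      have e1 : s * G.T a x₁ x₂ = 0 := by
        have := h.1
        simp only [map_add, map_smul, LinearMap.add_apply, LinearMap.smul_apply, smul_eq_mul, h.2, mul_zero, add_zero] at this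
        exact this
      have e1' : G.T a x₁ x₂ = 0 := (mul_eq_zero.1 e1).resolve_left hs0
      have e2 : s ^ 2 * G.T a x₁ x₁ = 0 := by
        simpa [G.symm₂₃ a x₂ x₁, e1', h.2, sq, mul_assoc] using hiso
      exact hnz ⟨(mul_eq_zero.1 e2).resolve_left (pow_ne_zero 2 hs0), e1', h.2⟩

/-- Polynomial functions of one variable. -/
def IsPoly₁ (f : K → K) : Prop := ∃ p : Polynomial K, ∀ t, p.eval t = f t

theorem IsPoly₁.const (c : K) : IsPoly₁ fun _ : K => c := ⟨Polynomial.C c, fun t => by simp⟩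

theorem IsPoly₁.id' : IsPoly₁ fun t : K => t := ⟨Polynomial.X, fun t => by simp⟩

theorem IsPoly₁.add {f g : K → K} (hf : IsPoly₁ f) (hg : IsPoly₁ g) : IsPoly₁ fun t => f t + g t := by
  obtain ⟨p, hp⟩ := hf; obtain ⟨q, hq⟩ := hg
  exact ⟨p + q, fun t => by simp [hp, hq]⟩

theorem IsPoly₁.sub {f g : K → K} (hf : IsPoly₁ f) (hg : IsPoly₁ g) : IsPoly₁ fun t => f t - g t := by
  obtain ⟨p, hp⟩ := hf; obtain ⟨q, hq⟩ := hg
  exact ⟨p - q, fun t => by simp [hp, hq]⟩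

theorem IsPoly₁.mul {f g : K → K} (hf : IsPoly₁ f) (hg : IsPoly₁ g) : IsPoly₁ fun t => f t * g t := by
  obtain ⟨p, hp⟩ := hf; obtain ⟨q, hq⟩ := hg
  exact ⟨p * q, fun t => by simp [hp, hq]⟩

theorem IsPoly₁.sum {ι : Type*} (s : Finset ι) {f : ι → K → K} (hf : ∀ i, IsPoly₁ (f i)) :
    IsPoly₁ fun t => ∑ i ∈ s, f i t := by
  choose p hp using hf
  exact ⟨∑ i ∈ s, p i, fun t => by simp [Polynomial.eval_finsetSum, hp]⟩

/-- Polynomial curves. -/
def IsPolyVec (γ : K → (Fin 4 → K)) : Prop := ∀ i, IsPoly₁ fun t => γ t i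

theorem IsPolyVec.T {γ₁ γ₂ γ₃ : K → (Fin 4 → K)} (h₁ : IsPolyVec γ₁) (h₂ : IsPolyVec γ₂) (h₃ : IsPolyVec γ₃) :
    IsPoly₁ fun t => G.T (γ₁ t) (γ₂ t) (γ₃ t) := by
  have lin : ∀ (g : (Fin 4 → K) →ₗ[K] K) v, g v = ∑ i, v i * g (Pi.single i 1) := fun g v => by
    conv_lhs => rw [pi_eq_sum_univ' v]
    simp
  have e : ∀ x y z : Fin 4 → K, G.T x y z =
      ∑ i, x i * ∑ j, y j * ∑ l, z l * G.T (Pi.single i 1) (Pi.single j 1) (Pi.single l 1) := fun x y z => by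
    rw [G.symm₁₃ x y z, lin (G.T z y) x]
    refine Finset.sum_congr rfl fun i _ => ?_
    rw [G.symm₁₃ z y, G.symm₂₃ (Pi.single i 1) y z, lin (G.T (Pi.single i 1) z) y]
    refine congrArg (x i * ·) (Finset.sum_congr rfl fun j _ => ?_)
    rw [G.symm₂₃ (Pi.single i 1) z, lin (G.T (Pi.single i 1) (Pi.single j 1)) z]
  rw [show (fun t => G.T (γ₁ t) (γ₂ t) (γ₃ t)) = fun t => ∑ i, γ₁ t i * ∑ j, γ₂ t j * ∑ l, γ₃ t l *
    G.T (Pi.single i 1) (Pi.single j 1) (Pi.single l 1) from funext fun t => e _ _ _]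
  exact .sum _ fun i => (h₁ i).mul (.sum _ fun j => (h₂ j).mul (.sum _ fun l => (h₃ l).mul (.const _)))

theorem IsPolyVec.smul {f : K → K} {γ : K → (Fin 4 → K)} (hf : IsPoly₁ f) (h : IsPolyVec γ) :
    IsPolyVec fun t => f t • γ t := fun i => by simpa using hf.mul (h i)

theorem IsPolyVec.add {γ δ : K → (Fin 4 → K)} (h : IsPolyVec γ) (h' : IsPolyVec δ) :
    IsPolyVec fun t => γ t + δ t := fun i => by simpa using (h i).add (h' i)

theorem IsPolyVec.sub {γ δ : K → (Fin 4 → K)} (h : IsPolyVec γ) (h' : IsPolyVec δ) :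
    IsPolyVec fun t => γ t - δ t := fun i => by simpa using (h i).sub (h' i)

theorem IsPolyVec.const (v : Fin 4 → K) : IsPolyVec fun _ : K => v := fun i => .const (v i)

/-- The point with coordinates `x` in the frame `u`. -/
def comb (u : Fin 3 → (Fin 4 → K)) (x : Fin 3 → K) : Fin 4 → K := x 0 • u 0 + x 1 • u 1 + x 2 • u 2

/-- The Hessian of the cubic in the frame `u`, at `x`. -/
def hessAt (G : Cubic K (Fin 4 → K)) (u : Fin 3 → (Fin 4 → K)) (x : Fin 3 → K) : K :=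
  (Matrix.of fun i j => G.T (comb u x) (u i) (u j)).det

/-- The covariant which vanishes on unions of lines. -/
def cov (G : Cubic K (Fin 4 → K)) (u : Fin 3 → (Fin 4 → K)) (x y : Fin 3 → K) : K :=
  hessAt G u x * G.F (comb u y) - hessAt G u y * G.F (comb u x)

/-- The moving frame of the tangent plane. -/
def frame (G : Cubic K (Fin 4 → K)) (c : Fin 3 → (Fin 4 → K)) (e b : Fin 4 → K) (i : Fin 3) : Fin 4 → K :=
  G.T b b e • c i - G.T b b (c i) • e

omit [CharZero K] in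
theorem T_frame (c : Fin 3 → (Fin 4 → K)) (e b : Fin 4 → K) (i : Fin 3) : G.T b b (frame G c e b i) = 0 := by
  simp [frame]; ring

theorem cov_eq_zero {b : Fin 4 → K} (h : Tpt G b) (u : Fin 3 → (Fin 4 → K)) (hu : ∀ i, G.T b b (u i) = 0)
    (x y : Fin 3 → K) : cov G u x y = 0 := by
  obtain ⟨l₁, l₂, l₃, hl⟩ := h
  have hF : ∀ v, G.T b b v = 0 → G.F v = l₁ v * l₂ v * l₃ v := hl
  have hT : ∀ p q r, G.T b b p = 0 → G.T b b q = 0 → G.T b b r = 0 →
      6 * G.T p q r = l₁ p * l₂ q * l₃ r + l₁ p * l₂ r * l₃ q + l₁ q * l₂ p * l₃ r + l₁ q * l₂ r * l₃ p +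
        l₁ r * l₂ p * l₃ q + l₁ r * l₂ q * l₃ p := fun p q r hp hq hr => by
    rw [G.polar₃, hF p hp, hF q hq, hF r hr, hF _ (by simp [hp, hq] : G.T b b (p + q) = 0),
      hF _ (by simp [hp, hr] : G.T b b (p + r) = 0), hF _ (by simp [hq, hr] : G.T b b (q + r) = 0),
      hF _ (by simp [hp, hq, hr] : G.T b b (p + q + r) = 0)]
    simp only [map_add]
    ring
  have hc : ∀ z : Fin 3 → K, G.T b b (comb u z) = 0 := fun z => by simp [comb, hu]
  have key : ∀ z : Fin 3 → K, 216 * hessAt G u z =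
      2 * (Matrix.of ![fun i => l₁ (u i), fun i => l₂ (u i), fun i => l₃ (u i)]).det ^ 2 * G.F (comb u z) := by
    intro z
    have e : ∀ i j, 6 * G.T (comb u z) (u i) (u j) =
        l₁ (u i) * (l₂ (u j) * l₃ (comb u z) + l₃ (u j) * l₂ (comb u z)) +
        l₂ (u i) * (l₁ (u j) * l₃ (comb u z) + l₃ (u j) * l₁ (comb u z)) +
        l₃ (u i) * (l₁ (u j) * l₂ (comb u z) + l₂ (u j) * l₁ (comb u z)) := fun i j => by
      rw [hT _ _ _ (hc z) (hu i) (hu j)]; ring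
    have e' : (216 : K) * hessAt G u z = (Matrix.of fun i j => 6 * G.T (comb u z) (u i) (u j)).det := by
      simp only [hessAt, Matrix.det_fin_three, Matrix.of_apply]; ring
    rw [e', hF _ (hc z)]
    simp only [Matrix.det_fin_three, Matrix.of_apply, e, Matrix.cons_val_zero, Matrix.cons_val_one, Matrix.cons_val_two,
      Matrix.tail_cons, Matrix.head_cons]
    ring
  have : 216 * cov G u x y = 0 := by
    simp only [cov, mul_sub, ← mul_assoc]
    rw [key x, key y]; ring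
  simpa using this

theorem cov_ne_zero {a h₁ h₂ : Fin 4 → K} (hFa : G.F a = 0) (h1 : G.T a a h₁ = 0) (h2 : G.T a a h₂ = 0)
    (h11 : G.T a h₁ h₁ = 0)
    (h : (G.T a h₁ h₂ ≠ 0 ∧ G.T a h₂ h₂ = 0 ∧ G.F h₁ ≠ 0) ∨
        (G.T a h₁ h₂ = 0 ∧ G.T a h₂ h₂ ≠ 0 ∧ (G.F h₁ ≠ 0 ∨ G.T h₁ h₁ h₂ ≠ 0))) :
    ∃ x y, cov G ![a, h₁, h₂] x y ≠ 0 := by
  have hFa' : G.T a a a = 0 := hFa
  have hM : ∀ z : Fin 3 → K, hessAt G ![a, h₁, h₂] z =
      -(z 2 * G.T a h₁ h₂) ^ 2 * (z 0 * G.T a h₂ h₂ + z 1 * G.T h₁ h₂ h₂ + z 2 * G.F h₂)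
      + 2 * (z 2 * G.T a h₁ h₂) * (z 1 * G.T a h₁ h₂ + z 2 * G.T a h₂ h₂) *
          (z 0 * G.T a h₁ h₂ + z 1 * G.T h₁ h₁ h₂ + z 2 * G.T h₁ h₂ h₂)
      - (z 1 * G.T a h₁ h₂ + z 2 * G.T a h₂ h₂) ^ 2 * (z 1 * G.F h₁ + z 2 * G.T h₁ h₁ h₂) := fun z => by
    have e : comb ![a, h₁, h₂] z = z 0 • a + z 1 • h₁ + z 2 • h₂ := by simp [comb]
    have a1 : G.T h₁ a a = 0 := by rw [G.symm₁₃]; exact h1
    have a2 : G.T h₂ a a = 0 := by rw [G.symm₁₃]; exact h2
    have a3 : G.T a h₁ a = 0 := by rw [G.symm₂₃]; exact h1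
    have a4 : G.T a h₂ a = 0 := by rw [G.symm₂₃]; exact h2
    have b1 : G.T h₁ a h₁ = 0 := by rw [G.symm₁₂]; exact h11
    have b2 : G.T h₁ h₁ a = 0 := by rw [G.symm₁₃]; exact h11
    have c1 : G.T h₁ a h₂ = G.T a h₁ h₂ := G.symm₁₂ _ _ _
    have c2 : G.T h₂ a h₁ = G.T a h₁ h₂ := by rw [G.symm₁₂, G.symm₂₃]
    have c3 : G.T h₁ h₂ a = G.T a h₁ h₂ := by rw [G.symm₁₃, G.symm₂₃]
    have c4 : G.T h₂ h₁ a = G.T a h₁ h₂ := by rw [G.symm₁₃]
    have c5 : G.T a h₂ h₁ = G.T a h₁ h₂ := G.symm₂₃ _ _ _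
    have d1 : G.T h₂ a h₂ = G.T a h₂ h₂ := G.symm₁₂ _ _ _
    have d2 : G.T h₂ h₂ a = G.T a h₂ h₂ := G.symm₁₃ _ _ _
    have f1 : G.T h₁ h₂ h₁ = G.T h₁ h₁ h₂ := G.symm₂₃ _ _ _
    have f2 : G.T h₂ h₁ h₁ = G.T h₁ h₁ h₂ := G.symm₁₃ _ _ _
    have g1 : G.T h₂ h₁ h₂ = G.T h₁ h₂ h₂ := G.symm₁₂ _ _ _
    have g2 : G.T h₂ h₂ h₁ = G.T h₁ h₂ h₂ := G.symm₁₃ _ _ _
    simp only [hessAt, e, Matrix.det_fin_three, Matrix.of_apply, Matrix.cons_val_zero, Matrix.cons_val_one,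
      Matrix.cons_val_two, Matrix.tail_cons, Matrix.head_cons, map_add, map_smul, LinearMap.add_apply,
      LinearMap.smul_apply, smul_eq_mul, Cubic.F, hFa', h1, h2, h11, a1, a2, a3, a4, b1, b2, c1, c2, c3, c4, c5,
      d1, d2, f1, f2, g1, g2]
    ring
  have hF : ∀ z : Fin 3 → K, G.F (comb ![a, h₁, h₂] z) = 3 * z 0 * (2 * z 1 * z 2 * G.T a h₁ h₂ + z 2 ^ 2 * G.T a h₂ h₂) +
      (z 1 ^ 3 * G.F h₁ + 3 * z 1 ^ 2 * z 2 * G.T h₁ h₁ h₂ + 3 * z 1 * z 2 ^ 2 * G.T h₁ h₂ h₂ + z 2 ^ 3 * G.F h₂) := fun z => by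
    simp only [comb, Matrix.cons_val_zero, Matrix.cons_val_one, Matrix.cons_val_two, Matrix.tail_cons, Matrix.head_cons]
    rw [G.F_comb₃, hFa, h1, h2, h11]; ring
  rcases h with ⟨hB, hD, hF1⟩ | ⟨hB, hD, hh⟩
  · by_contra! hall
    have e0 := hall ![0, 1, 0] ![0, 1, 1]
    have e1 := hall ![0, 1, 0] ![1, 1, 1]
    simp [cov, hM, hF, hD] at e0 e1
    have : 8 * G.T a h₁ h₂ ^ 3 * G.F h₁ = 0 := by linear_combination e0 - e1
    simp [hB, hF1] at this
  · by_cases hF1 : G.F h₁ = 0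
    · refine ⟨![0, 0, 1], ![1, 0, 1], ?_⟩
      have h112 := hh.resolve_left (not_not_intro hF1)
      intro e
      simp [cov, hM, hF, hB, hF1] at e
      have : 3 * G.T a h₂ h₂ ^ 3 * G.T h₁ h₁ h₂ = 0 := by linear_combination -e
      simp [hD, h112] at this
    · refine ⟨![0, 1, 0], ![0, (1 - G.T h₁ h₁ h₂) / G.F h₁, 1], ?_⟩
      intro e
      simp [cov, hM, hF, hB, hF1] at e
      exact hD e

/-- A `T`-point or a singular point. -/
def Special (G : Cubic K (Fin 4 → K)) (b : Fin 4 → K) : Prop := Tpt G b ∨ ∀ v, G.T b b v = 0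

/-- Finitely many `T`-points on a polynomial curve through `a`. -/
theorem finite_on_curve {a h₁ h₂ e : Fin 4 → K} (hFa : G.F a = 0) (h1 : G.T a a h₁ = 0) (h2 : G.T a a h₂ = 0)
    (h11 : G.T a h₁ h₁ = 0) (he : G.T a a e ≠ 0)
    (h : (G.T a h₁ h₂ ≠ 0 ∧ G.T a h₂ h₂ = 0 ∧ G.F h₁ ≠ 0) ∨
        (G.T a h₁ h₂ = 0 ∧ G.T a h₂ h₂ ≠ 0 ∧ (G.F h₁ ≠ 0 ∨ G.T h₁ h₁ h₂ ≠ 0)))
    {γ : K → (Fin 4 → K)} (hγ : IsPolyVec γ) {t₀ c : K} (hc : c ≠ 0) (h0 : γ t₀ = c • a) :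
    {t : K | Special G (γ t)}.Finite := by
  obtain ⟨x, y, hxy⟩ := cov_ne_zero hFa h1 h2 h11 h
  let u : K → Fin 3 → (Fin 4 → K) := fun t => frame G ![a, h₁, h₂] e (γ t)
  have hu : ∀ i, IsPolyVec fun t => u t i := fun i =>
    (IsPolyVec.smul (hγ.T hγ (.const e)) (.const _)).sub (IsPolyVec.smul (hγ.T hγ (.const _)) (.const e))
  have hcomb : ∀ z : Fin 3 → K, IsPolyVec fun t => comb (u t) z := fun z =>
    ((IsPolyVec.smul (.const _) (hu 0)).add (IsPolyVec.smul (.const _) (hu 1))).add (IsPolyVec.smul (.const _) (hu 2))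
  have hh : ∀ z : Fin 3 → K, IsPoly₁ fun t => hessAt G (u t) z := fun z => by
    have hT : ∀ i j, IsPoly₁ fun t => G.T (comb (u t) z) (u t i) (u t j) := fun i j => (hcomb z).T (hu i) (hu j)
    simp only [hessAt, Matrix.det_fin_three, Matrix.of_apply]
    exact ((((((hT 0 0).mul (hT 1 1)).mul (hT 2 2)).sub (((hT 0 0).mul (hT 1 2)).mul (hT 2 1))).sub
      (((hT 0 1).mul (hT 1 0)).mul (hT 2 2))).add (((hT 0 1).mul (hT 1 2)).mul (hT 2 0))).add
      (((hT 0 2).mul (hT 1 0)).mul (hT 2 1)) |>.sub (((hT 0 2).mul (hT 1 1)).mul (hT 2 0))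
  have hcov : IsPoly₁ fun t => cov G (u t) x y :=
    ((hh x).mul ((hcomb y).T (hcomb y) (hcomb y))).sub ((hh y).mul ((hcomb x).T (hcomb x) (hcomb x)))
  obtain ⟨p, hp⟩ := hcov
  have hscale : ∀ (r : K) (w : Fin 3 → (Fin 4 → K)), cov G (r • w) x y = r ^ 12 * cov G w x y := fun r w => by
    have hc : ∀ z, comb (r • w) z = r • comb w z := fun z => by simp only [comb, Pi.smul_apply]; module
    simp only [cov, hessAt, Matrix.det_fin_three, Matrix.of_apply, hc, Pi.smul_apply,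
      G.F_smul, map_smul, LinearMap.smul_apply, smul_eq_mul]
    ring
  have hp0 : p ≠ 0 := fun hz => by
    have h' := hp t₀
    rw [hz, Polynomial.eval_zero] at h'
    simp only at h'
    have : u t₀ = (c ^ 2 * G.T a a e) • ![a, h₁, h₂] := by
      funext i
      have hFa' : G.T a a a = 0 := hFa
      fin_cases i <;> simp [u, frame, h0, h1, h2, hFa'] <;> module
    rw [this, hscale] at h'
    simp [hc, he, hxy] at h'
  refine (Polynomial.finite_setOf_isRoot hp0).subset fun t ht => ?_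
  show p.eval t = 0
  rw [hp]
  rcases ht with ht | ht
  · exact cov_eq_zero ht _ (fun i => T_frame _ _ _ i) x y
  · have : u t = (0 : K) • u t := by
      rw [zero_smul]; funext i; simp [u, frame, ht]
    show cov G (u t) x y = 0
    rw [this, hscale]; ring

theorem finite_Tpt [IsAlgClosed K] {a : Fin 4 → K} (hFa : G.F a = 0) (hsm : ∃ v, G.T a a v ≠ 0) (ha0 : a ≠ 0)
    (hnT : ¬ Tpt G a) :
    {U : Submodule K (Fin 4 → K) | finrank K ↥U = 1 ∧
      ∀ b ∈ U, b ≠ 0 → G.T a a b = 0 ∧ G.F b = 0 ∧ Special G b}.Finite := by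
  obtain ⟨h₁, h₂, h1, h2, hsp, -, h11, hcase⟩ := not_Tpt_data hFa hsm ha0 hnT
  obtain ⟨e, he⟩ := hsm
  set B := G.T a h₁ h₂ with hB
  set D := G.T a h₂ h₂ with hD
  have hfc : ∀ {γ : K → (Fin 4 → K)}, IsPolyVec γ → ∀ {t₀ c : K}, c ≠ 0 → γ t₀ = c • a →
      {t : K | Special G (γ t)}.Finite := fun hγ _ _ hc h0 => finite_on_curve hFa h1 h2 h11 he hcase hγ hc h0
  have hline : ∀ w, ({U : Submodule K (Fin 4 → K) | ∃ t : K, Special G (a + t • w) ∧ U = Submodule.span K {a + t • w}} ∪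
      {Submodule.span K {w}}).Finite := fun w => by
    refine Set.Finite.union (((hfc (γ := fun t => a + t • w)
      ((IsPolyVec.const a).add (IsPolyVec.smul IsPoly₁.id' (.const w))) (t₀ := 0) one_ne_zero (by simp)).image
        fun t => Submodule.span K {a + t • w}).subset ?_) (Set.finite_singleton _)
    rintro U ⟨t, ht, hU⟩
    exact ⟨t, ht, hU.symm⟩
  let C3 : K → K := fun τ => G.F h₁ + 3 * τ * G.T h₁ h₁ h₂ + 3 * τ ^ 2 * G.T h₁ h₂ h₂ + τ ^ 3 * G.F h₂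
  have hC : ∀ α τ, G.F (α • a + (h₁ + τ • h₂)) = 3 * α * (2 * τ * B + τ ^ 2 * D) + C3 τ := fun α τ => by
    have e3 := G.F_comb₃ a h₁ h₂ α 1 τ
    rw [one_smul, add_assoc] at e3
    rw [e3, hFa, h1, h2, h11]; simp only [C3, hB, hD]; ring
  -- the rational parametrisation
  obtain ⟨γ, hγ, c, hc, hγ0, hγb⟩ : ∃ γ : K → (Fin 4 → K), IsPolyVec γ ∧ ∃ c : K, c ≠ 0 ∧ γ 0 = c • a ∧
      ∀ α τ, 2 * τ * B + τ ^ 2 * D ≠ 0 → G.F (α • a + (h₁ + τ • h₂)) = 0 →
        ∃ r : K, r ≠ 0 ∧ γ τ = r • (α • a + (h₁ + τ • h₂)) := by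
    have hC3 : IsPoly₁ C3 := ⟨Polynomial.C (G.F h₁) + 3 * Polynomial.X * Polynomial.C (G.T h₁ h₁ h₂) +
      3 * Polynomial.X ^ 2 * Polynomial.C (G.T h₁ h₂ h₂) + Polynomial.X ^ 3 * Polynomial.C (G.F h₂),
      fun t => by simp [C3]; ring⟩
    have hw : IsPolyVec fun τ : K => h₁ + τ • h₂ := (IsPolyVec.const h₁).add (IsPolyVec.smul IsPoly₁.id' (.const h₂))
    by_cases hF1 : G.F h₁ = 0
    · obtain ⟨hB0, hD0, hh⟩ := hcase.resolve_left fun h => h.2.2 hF1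
      refine ⟨fun τ => (3 * (τ * D)) • (h₁ + τ • h₂) -
        (3 * G.T h₁ h₁ h₂ + 3 * τ * G.T h₁ h₂ h₂ + τ * τ * G.F h₂) • a, ?_, -(3 * G.T h₁ h₁ h₂),
        by simpa using hh.resolve_left (not_not_intro hF1), by simp, fun α τ hq hF => ?_⟩
      · exact (IsPolyVec.smul ((IsPoly₁.const 3).mul (IsPoly₁.id'.mul (.const D))) hw).sub
          (IsPolyVec.smul (((IsPoly₁.const _).add (((IsPoly₁.const 3).mul IsPoly₁.id').mul (.const _))).add
            ((IsPoly₁.id'.mul IsPoly₁.id').mul (.const _))) (.const a))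
      · have hτ : τ ≠ 0 := fun h => hq (by rw [h]; ring)
        refine ⟨3 * (τ * D), by simp [hτ, hD0], ?_⟩
        rw [hC] at hF
        simp only [C3, hF1, hB0] at hF
        have hF' : 3 * α * (τ * D) + (3 * G.T h₁ h₁ h₂ + 3 * τ * G.T h₁ h₂ h₂ + τ * τ * G.F h₂) = 0 :=
          mul_left_cancel₀ hτ (by linear_combination hF)
        show _ - _ = _
        match_scalars <;> first | linear_combination -hF' | ring1
    · refine ⟨fun τ => (3 * ((2 * τ) * B + τ * τ * D)) • (h₁ + τ • h₂) - C3 τ • a, ?_, -G.F h₁,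
        by simpa using hF1, by simp [C3], fun α τ hq hF => ?_⟩
      · exact (IsPolyVec.smul ((IsPoly₁.const 3).mul ((((IsPoly₁.const 2).mul IsPoly₁.id').mul (.const B)).add
          ((IsPoly₁.id'.mul IsPoly₁.id').mul (.const D)))) hw).sub (IsPolyVec.smul hC3 (.const a))
      · refine ⟨3 * (2 * τ * B + τ ^ 2 * D), by simp [hq], ?_⟩
        rw [hC] at hF
        show _ - _ = _
        match_scalars <;> first | linear_combination -hF | ring1
  have hroots : {τ : K | 2 * τ * B + τ ^ 2 * D = 0}.Finite := by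
    by_cases hD0 : D = 0
    · have hB0 : B ≠ 0 := by
        rcases hcase with h | h
        exacts [h.1, absurd hD0 h.2.1]
      exact (Set.finite_singleton (0 : K)).subset fun τ hτ => by simpa [hD0, hB0] using hτ
    · refine ({0, -2 * B / D} : Set K).toFinite.subset fun τ hτ => ?_
      have hτ' : 2 * τ * B + τ ^ 2 * D = 0 := hτ
      have : τ * (2 * B + τ * D) = 0 := by linear_combination hτ'
      rcases mul_eq_zero.1 this with h | h
      · exact Or.inl h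
      · right
        rw [Set.mem_singleton_iff, eq_div_iff hD0]; linear_combination h
  refine ((((hfc hγ hc hγ0).image fun t => Submodule.span K {γ t}).union (hline h₂)).union
    ((hroots.biUnion fun τ _ => hline (h₁ + τ • h₂)).union (Set.finite_singleton (Submodule.span K {a})))).subset ?_
  rintro U ⟨hU, hUb⟩
  obtain ⟨b, hb, hb0⟩ := (Submodule.ne_bot_iff U).1 (fun h => by rw [h, finrank_bot] at hU; omega)
  have hUs : U = Submodule.span K {b} := (Submodule.eq_of_le_of_finrank_eq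
    ((Submodule.span_singleton_le_iff_mem _ _).2 hb) (by rw [finrank_span_singleton hb0, hU])).symm
  have scale : ∀ (r : K) (b' : Fin 4 → K), r ≠ 0 → b = r • b' → Special G b' ∧ U = Submodule.span K {b'} := by
    intro r b' hr e'
    refine ⟨(hUb b' ((U.smul_mem_iff hr).1 (e' ▸ hb)) fun h0 => hb0 (by rw [e', h0, smul_zero])).2.2, ?_⟩
    rw [hUs, e', Submodule.span_singleton_smul_eq (IsUnit.mk0 _ hr)]
  obtain ⟨hbH, hbF, -⟩ := hUb b hb hb0
  obtain ⟨α, s, t, hbe⟩ := hsp b hbH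
  -- points on a line through `a`
  have online : ∀ (w : Fin 4 → K) (r : K), r ≠ 0 → b = α • a + r • w → U ∈
      ({U : Submodule K (Fin 4 → K) | ∃ t : K, Special G (a + t • w) ∧ U = Submodule.span K {a + t • w}} ∪
        {Submodule.span K {w}}) := by
    intro w r hr e'
    rcases eq_or_ne α 0 with hα | hα
    · rw [hα, zero_smul, zero_add] at e'
      exact Or.inr (scale r w hr e').2
    · exact Or.inl ⟨r / α, scale α _ hα (by rw [e', smul_add, smul_smul, mul_div_cancel₀ _ hα])⟩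
  rcases eq_or_ne s 0 with hs | hs
  · rw [hs, zero_smul, add_zero] at hbe
    rcases eq_or_ne t 0 with ht | ht
    · rw [ht, zero_smul, add_zero] at hbe
      have hα : α ≠ 0 := fun hα => hb0 (by rw [hbe, hα, zero_smul])
      exact Or.inr (Or.inr (scale α a hα hbe).2)
    · exact Or.inl (Or.inr (online h₂ t ht hbe))
  · have hbe' : b = α • a + s • (h₁ + (t / s) • h₂) := by
      rw [hbe, smul_add, smul_smul, mul_div_cancel₀ _ hs, add_assoc]
    by_cases hq : 2 * (t / s) * B + (t / s) ^ 2 * D = 0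
    · exact Or.inr (Or.inl (Set.mem_biUnion hq (online _ s hs hbe')))
    · have hb' : b = s • ((α / s) • a + (h₁ + (t / s) • h₂)) := by
        rw [hbe]
        match_scalars <;> field_simp
      have hF' : G.F ((α / s) • a + (h₁ + (t / s) • h₂)) = 0 := by
        rw [hb', G.F_smul] at hbF
        exact (mul_eq_zero.1 hbF).resolve_left (pow_ne_zero _ hs)
      obtain ⟨r, hr, hγr⟩ := hγb _ _ hq hF'
      obtain ⟨hT, hU'⟩ := scale (s / r) (γ (t / s)) (div_ne_zero hs hr) (by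
        rw [hγr, smul_smul, div_mul_cancel₀ _ hr]; exact hb')
      exact Or.inl (Or.inl ⟨t / s, hT, hU'.symm⟩)

theorem firstPolar_section [IsAlgClosed K] {a : Fin 4 → K} (hFa : G.F a = 0) (hsm : ∃ v, G.T a a v ≠ 0)
    (ha0 : a ≠ 0) (hnT : ¬ Tpt G a) :
    ∃ U₁ U₂ : Submodule K (Fin 4 → K), finrank K ↥U₁ = 2 ∧ finrank K ↥U₂ = 2 ∧ a ∈ U₁ ∧ a ∈ U₂ ∧
      (∀ x ∈ U₁, G.T a a x = 0) ∧ (∀ x ∈ U₂, G.T a a x = 0) ∧
      ∀ x, (G.T a a x = 0 ∧ G.T x x a = 0) ↔ (x ∈ U₁ ∨ x ∈ U₂) := by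
  obtain ⟨h₁, h₂, h1, h2, hsp, hli, h11, hcase⟩ := not_Tpt_data hFa hsm ha0 hnT
  have hFa' : G.T a a a = 0 := hFa
  have hq : ∀ α s t : K, G.T (α • a + s • h₁ + t • h₂) (α • a + s • h₁ + t • h₂) a =
      2 * s * t * G.T a h₁ h₂ + t ^ 2 * G.T a h₂ h₂ := fun α s t => by
    rw [G.symm₁₃]
    simp [hFa', h1, h2, h11, G.symm₂₃ a h₁ a, G.symm₂₃ a h₂ a, G.symm₂₃ a h₂ h₁]
    ring
  have li : ∀ w, (w = h₁ ∨ w = h₂) → finrank K ↥(line a w) = 2 := fun w hw => by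
    have hli' : LinearIndependent K ![a, w] := LinearIndependent.pair_iff.2 fun s t hst => by
      rcases hw with rfl | rfl
      · have h := Fintype.linearIndependent_iff.1 hli ![s, t, 0] (by simpa [Fin.sum_univ_three] using hst)
        exact ⟨h 0, h 1⟩
      · have h := Fintype.linearIndependent_iff.1 hli ![s, 0, t] (by simpa [Fin.sum_univ_three] using hst)
        exact ⟨h 0, h 2⟩
    show finrank K ↥(Submodule.span K ({a, w} : Set (Fin 4 → K))) = 2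
    rw [show ({a, w} : Set (Fin 4 → K)) = Set.range ![a, w] by simp [Matrix.range_cons, Set.pair_comm],
      finrank_span_eq_card hli', Fintype.card_fin]
  have hmem : ∀ w, G.T a a w = 0 → ∀ x ∈ line a w, G.T a a x = 0 := fun w hw x hx => by
    obtain ⟨p, r, rfl⟩ := Submodule.mem_span_pair.1 hx
    simp [hFa', hw]
  rcases hcase with ⟨hB, hD, -⟩ | ⟨hB, hD, -⟩
  · refine ⟨line a h₁, line a h₂, li _ (Or.inl rfl), li _ (Or.inr rfl), Submodule.subset_span (by simp),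
      Submodule.subset_span (by simp), hmem _ h1, hmem _ h2, fun x => ⟨fun ⟨hx, hx'⟩ => ?_, fun hx => ?_⟩⟩
    · obtain ⟨α, s, t, rfl⟩ := hsp x hx
      rw [hq, hD, mul_zero, add_zero] at hx'
      have : s = 0 ∨ t = 0 := by simpa [hB] using hx'
      rcases this with rfl | rfl
      · exact Or.inr (Submodule.mem_span_pair.2 ⟨α, t, by simp⟩)
      · exact Or.inl (Submodule.mem_span_pair.2 ⟨α, s, by simp⟩)
    · rcases hx with hx | hx <;> refine ⟨hmem _ (by assumption) x hx, ?_⟩ <;>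
        obtain ⟨α, r, rfl⟩ := Submodule.mem_span_pair.1 hx
      · simpa using hq α r 0
      · simpa [hD] using hq α 0 r
  · refine ⟨line a h₁, line a h₁, li _ (Or.inl rfl), li _ (Or.inl rfl), Submodule.subset_span (by simp),
      Submodule.subset_span (by simp), hmem _ h1, hmem _ h1, fun x => ⟨fun ⟨hx, hx'⟩ => ?_, fun hx => ?_⟩⟩
    · obtain ⟨α, s, t, rfl⟩ := hsp x hx
      rw [hq, hB, mul_zero, zero_add] at hx'
      have : t = 0 := by simpa [hD] using hx'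
      subst this
      exact Or.inl (Submodule.mem_span_pair.2 ⟨α, s, by simp⟩)
    · have hx : x ∈ line a h₁ := hx.elim id id
      refine ⟨hmem _ h1 x hx, ?_⟩
      obtain ⟨α, r, rfl⟩ := Submodule.mem_span_pair.1 hx
      simpa using hq α r 0

section Poly
open MvPolynomial

theorem exists_functional (L : MvPolynomial (Fin 4) K) (hL : L.IsHomogeneous 1) :
    ∃ l : (Fin 4 → K) →ₗ[K] K, ∀ v, eval v L = l v := by
  refine ⟨∑ i, eval 0 (pderiv i L) • LinearMap.proj i, fun v => ?_⟩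
  have h := congrArg (eval v) hL.sum_X_mul_pderiv
  simp only [map_sum, map_mul, eval_X, one_smul] at h
  rw [← h, LinearMap.sum_apply]
  refine Finset.sum_congr rfl fun i _ => ?_
  have h0 : (pderiv i L).IsHomogeneous 0 := by simpa using hL.pderiv (i := i)
  rw [← totalDegree_zero_iff_isHomogeneous, totalDegree_eq_zero_iff_eq_C] at h0
  rw [h0, eval_C, LinearMap.smul_apply, eval_C, LinearMap.proj_apply, smul_eq_mul, mul_comm]

/-- A polynomial vanishing on a hyperplane is divisible by its equation. -/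
theorem mem_span_of_vanish [Infinite K] {E : MvPolynomial (Fin 4) K} {e : Fin 4 → K} (g : (Fin 4 → K) →ₗ[K] K)
    (hE : ∀ v, eval v E = g v) (he : g e ≠ 0) (P : MvPolynomial (Fin 4) K) (h : ∀ v, g v = 0 → eval v P = 0) :
    P ∈ Ideal.span {E} := by
  let φ : MvPolynomial (Fin 4) K →ₐ[K] MvPolynomial (Fin 4) K := aeval fun i => X i - C (e i / g e) * E
  have h0 : φ P = 0 := MvPolynomial.funext fun v => by
    have : eval v (φ P) = eval (v - (g v / g e) • e) P := by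
      rw [← aeval_eq_eval, ← aeval_eq_eval]
      rw [← AlgHom.comp_apply, comp_aeval]
      congr 1
      refine MvPolynomial.algHom_ext fun i => ?_
      simp [hE]; ring
    rw [this, map_zero]
    exact h _ (by simp [he])
  have hq : (Ideal.Quotient.mkₐ K (Ideal.span {E})).comp φ = Ideal.Quotient.mkₐ K (Ideal.span {E}) := by
    refine MvPolynomial.algHom_ext fun i => ?_
    rw [AlgHom.comp_apply]
    show Ideal.Quotient.mk _ (φ (X i)) = Ideal.Quotient.mk _ (X i)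
    rw [Ideal.Quotient.mk_eq_mk_iff_sub_mem]
    simp only [φ, aeval_X, sub_sub_cancel_left]
    exact neg_mem (Ideal.mul_mem_left _ _ (Ideal.mem_span_singleton_self E))
  have := AlgHom.congr_fun hq P
  rw [AlgHom.comp_apply, h0, map_zero] at this
  exact Ideal.Quotient.eq_zero_iff_mem.1 this.symm

/-- Translation of the polynomial condition. -/
theorem Tpt_iff [Infinite K] {F : MvPolynomial (Fin 4) K} (hG : ∀ v, eval v F = G.F v)
    (hG' : ∀ v i, eval v (pderiv i F) = 3 * G.T v v (Pi.single i 1)) (b : Fin 4 → K)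
    (hb : ∃ v, G.T b b v ≠ 0) :
    (∃ L₁ L₂ L₃ : MvPolynomial (Fin 4) K, L₁.IsHomogeneous 1 ∧ L₂.IsHomogeneous 1 ∧ L₃.IsHomogeneous 1 ∧
      F - L₁ * L₂ * L₃ ∈ Ideal.span {∑ i : Fin 4, C (eval b (pderiv i F)) * X i}) ↔ Tpt G b := by
  set E : MvPolynomial (Fin 4) K := ∑ i : Fin 4, C (eval b (pderiv i F)) * X i
  have hE : ∀ v, eval v E = ((3 : K) • G.T b b) v := fun v => by
    conv_rhs => rw [pi_eq_sum_univ' v]
    simp only [E, map_sum, map_mul, eval_C, eval_X, hG', map_smul, LinearMap.smul_apply, smul_eq_mul]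
    exact Finset.sum_congr rfl fun i _ => by ring
  constructor
  · rintro ⟨L₁, L₂, L₃, hL₁, hL₂, hL₃, hm⟩
    obtain ⟨l₁, hl₁⟩ := exists_functional L₁ hL₁
    obtain ⟨l₂, hl₂⟩ := exists_functional L₂ hL₂
    obtain ⟨l₃, hl₃⟩ := exists_functional L₃ hL₃
    obtain ⟨c, hc⟩ := Ideal.mem_span_singleton'.1 hm
    refine ⟨l₁, l₂, l₃, fun v hv => ?_⟩
    have h := congrArg (eval v) hc
    simp only [map_mul, map_sub, hE, LinearMap.smul_apply, hv, smul_zero, mul_zero, hG, hl₁, hl₂, hl₃] at h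
    exact sub_eq_zero.1 h.symm
  · rintro ⟨l₁, l₂, l₃, hl⟩
    obtain ⟨e, he⟩ := hb
    let P : ((Fin 4 → K) →ₗ[K] K) → MvPolynomial (Fin 4) K := fun l => ∑ i, C (l (Pi.single i 1)) * X i
    have hP : ∀ l v, eval v (P l) = l v := fun l v => by
      conv_rhs => rw [pi_eq_sum_univ' v]
      simp only [P, map_sum, map_mul, eval_C, eval_X, map_smul, smul_eq_mul]
      exact Finset.sum_congr rfl fun i _ => mul_comm _ _
    have hP1 : ∀ l, (P l).IsHomogeneous 1 := fun l =>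
      IsHomogeneous.sum _ _ _ fun i _ => isHomogeneous_C_mul_X _ _
    refine ⟨P l₁, P l₂, P l₃, hP1 _, hP1 _, hP1 _, mem_span_of_vanish ((3 : K) • G.T b b) hE (e := e) (by simp [he]) _
      fun v hv => ?_⟩
    rw [map_sub, map_mul, map_mul, hG, hP, hP, hP, hl v (by simpa using hv), sub_self]

theorem sum_smul_pderiv_eval {F : MvPolynomial (Fin 4) K}
    (hG' : ∀ v i, eval v (pderiv i F) = 3 * G.T v v (Pi.single i 1)) (a x : Fin 4 → K) :
    eval x (∑ i : Fin 4, a i • pderiv i F) = 3 * G.T x x a := by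
  conv_rhs => rw [pi_eq_sum_univ' a]
  simp only [map_sum, smul_eval, hG', map_smul, smul_eq_mul, Finset.mul_sum]
  exact Finset.sum_congr rfl fun i _ => by ring

end Poly

end Groth.Agent.Cubic27
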